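import Mathlib
import Cfsg.Agent.H775.ExtendCore
import Cfsg.Agent.H781.Semi
import Cfsg.Agent.ClassicalGeometry.PSL2Basic
import Cfsg.Agent.H803.Realize
import Cfsg.Agent.H973.FusMorph
import Cfsg.Agent.H386.Factor
import Cfsg.Agent.Lib.NormalAbelian
import Cfsg.Agent.H802.FusCentric
import Cfsg.Agent.PLocal.FFFamily
import Cfsg.Agent.KFacts.RgdLieCharP
import Cfsg.Agent.FastGrp
import Cfsg.Agent.Prune
set_option linter.all false
prune_inst 0x7ff0fcfb8ff8bddfdfff7e7fffbddffc39d0dfffefdffb4bffe1ebff7fff23637be5fbaf9de4d8fddef6e23630b87813ffffce7fe66bdc7ffffd5ff45ffbee1ff5f7bd0851d79c340fbe2fff63f07fce7f3fffffffffffffffffffffffffffffffbfffffffff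
open scoped Cfsg.Agent.FastGrp

-- part: H772/PearlData
section
/-!
# The data used from a Sylow 7-subgroup of `G₂(7)` (helper772)

`Data X`: `X` of order `7^6` with elements `x`, `z` and an automorphism `τ` of order dividing 6: `z` central of order 7,
`|C(x)| ≤ 49`, `τ x = x³`, `τ z = z⁵`, `τ` acts as the cube map on the elementary abelian quotient of order 49, and four
elements generating, modulo `z`, an extraspecial group.
-/

set_option autoImplicit false

namespace Cfsg.Agent.H772.Pearl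

open Subgroup
open scoped commutatorElement

/-- the data -/
structure Data (X : Type*) [Group X] where
  /-- the element `x` -/
  x : X
  /-- the central element `z` -/
  z : X
  /-- the automorphism -/
  τ : MulAut X
  card : Nat.card X = 7 ^ 6
  x7 : x ^ 7 = 1
  z7 : z ^ 7 = 1
  z1 : z ≠ 1
  zc : ∀ s, z * s = s * z
  xz : x ∉ zpowers z
  cent : Nat.card (centralizer ({x} : Set X)) ≤ 49
  τx : τ x = x ^ 3
  τz : τ z = z ^ 5
  τ6 : τ ^ 6 = 1
  /-- the abelian quotient -/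
  π : X →* Multiplicative (ZMod 7 × ZMod 7)
  πs : Function.Surjective π
  πτ : ∀ s, π (τ s) = π s ^ 3
  /-- generators of an extraspecial group -/
  a₁ : X
  b₁ : X
  a₂ : X
  b₂ : X
  a₁7 : a₁ ^ 7 = 1
  b₁7 : b₁ ^ 7 = 1
  a₂7 : a₂ ^ 7 = 1
  b₂7 : b₂ ^ 7 = 1
  c₁ : a₁ * b₁ = z * (b₁ * a₁)
  c₂ : a₂ * b₂ = z * (b₂ * a₂)
  caa : a₁ * a₂ = a₂ * a₁
  cab : a₁ * b₂ = b₂ * a₁
  cba : b₁ * a₂ = a₂ * b₁
  cbb : b₁ * b₂ = b₂ * b₁

instance fact7 : Fact (Nat.Prime 7) := ⟨by norm_num⟩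

namespace Data

variable {X Y : Type*} [Group X] [Group Y]

/-- transport along an isomorphism -/
def transport (D : Data X) (e : X ≃* Y) : Data Y where
  x := e D.x
  z := e D.z
  τ := (e.symm.trans D.τ).trans e
  card := by rw [← Nat.card_congr e.toEquiv, D.card]
  x7 := by rw [← map_pow, D.x7, map_one]
  z7 := by rw [← map_pow, D.z7, map_one]
  z1 := fun h => D.z1 (e.injective (by rw [h, map_one]))
  zc := fun s => by
    obtain ⟨s, rfl⟩ := e.surjective s
    rw [← map_mul, ← map_mul, D.zc]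
  xz := fun h => by
    obtain ⟨k, hk⟩ := mem_zpowers_iff.1 h
    rw [← map_zpow] at hk
    exact D.xz (mem_zpowers_iff.2 ⟨k, e.injective hk⟩)
  cent := by
    have h : centralizer ({e D.x} : Set Y) = (centralizer ({D.x} : Set X)).map e.toMonoidHom := by
      ext y
      rw [mem_centralizer_singleton_iff]
      constructor
      · intro hy
        refine ⟨e.symm y, mem_centralizer_singleton_iff.2 (e.injective ?_), e.apply_symm_apply y⟩
        rw [map_mul, map_mul, e.apply_symm_apply, hy]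
      · rintro ⟨s, hs, rfl⟩
        have h1 := mem_centralizer_singleton_iff.1 hs
        show e s * e D.x = e D.x * e s
        rw [← map_mul, ← map_mul, h1]
    rw [h, Nat.card_congr ((centralizer ({D.x} : Set X)).equivMapOfInjective _ e.injective).symm.toEquiv]
    exact D.cent
  τx := by
    show e (D.τ (e.symm (e D.x))) = _
    rw [e.symm_apply_apply, D.τx, map_pow]
  τz := by
    show e (D.τ (e.symm (e D.z))) = _
    rw [e.symm_apply_apply, D.τz, map_pow]
  τ6 := by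
    have h : ∀ (n : ℕ) (s : X), (((e.symm.trans D.τ).trans e : MulAut Y) ^ n) (e s) = e ((D.τ ^ n) s) := by
      intro n
      induction n with
      | zero => intro s; rfl
      | succ n ih =>
        intro s
        rw [pow_succ, pow_succ, MulAut.mul_apply, MulAut.mul_apply]
        show (((e.symm.trans D.τ).trans e : MulAut Y) ^ n) (e (D.τ (e.symm (e s)))) = _
        rw [e.symm_apply_apply, ih]
    apply MulEquiv.ext
    intro y
    obtain ⟨s, rfl⟩ := e.surjective y
    rw [h, D.τ6]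
    rfl
  π := D.π.comp e.symm.toMonoidHom
  πs := D.πs.comp e.symm.surjective
  πτ := fun s => by
    show D.π (e.symm (e (D.τ (e.symm s)))) = D.π (e.symm s) ^ 3
    rw [e.symm_apply_apply, D.πτ]
  a₁ := e D.a₁
  b₁ := e D.b₁
  a₂ := e D.a₂
  b₂ := e D.b₂
  a₁7 := by rw [← map_pow, D.a₁7, map_one]
  b₁7 := by rw [← map_pow, D.b₁7, map_one]
  a₂7 := by rw [← map_pow, D.a₂7, map_one]
  b₂7 := by rw [← map_pow, D.b₂7, map_one]
  c₁ := by simp only [← map_mul, D.c₁]
  c₂ := by simp only [← map_mul, D.c₂]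
  caa := by simp only [← map_mul, D.caa]
  cab := by simp only [← map_mul, D.cab]
  cba := by simp only [← map_mul, D.cba]
  cbb := by simp only [← map_mul, D.cbb]

variable (D : Data X)

include D in
theorem finite : Finite X := Nat.finite_of_card_ne_zero (by rw [D.card]; norm_num)

include D in
theorem isPGroup : IsPGroup 7 X := IsPGroup.of_card D.card

theorem orderOf_z : orderOf D.z = 7 := orderOf_eq_prime D.z7 D.z1

theorem x1 : D.x ≠ 1 := fun h => D.xz (h ▸ one_mem _)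

/-- the subgroup `⟨x, z⟩` -/
def E : Subgroup X := zpowers D.x ⊔ zpowers D.z

theorem x_mem : D.x ∈ D.E := mem_sup_left (mem_zpowers D.x)

theorem z_mem : D.z ∈ D.E := mem_sup_right (mem_zpowers D.z)

theorem E_le : D.E ≤ centralizer ({D.x} : Set X) := by
  refine sup_le (zpowers_le.2 (mem_centralizer_singleton_iff.2 rfl)) (zpowers_le.2 ?_)
  exact mem_centralizer_singleton_iff.2 (D.zc _)

theorem card_zpowers_z : Nat.card (zpowers D.z) = 7 := by rw [Nat.card_zpowers, D.orderOf_z]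

theorem card_E : Nat.card D.E = 49 := by
  have hfin := D.finite
  have h1 : Nat.card D.E ≤ 49 := (Nat.card_mono (Set.toFinite _) D.E_le).trans D.cent
  have h2 : 7 ∣ Nat.card D.E := by
    rw [← D.card_zpowers_z]
    exact card_dvd_of_le (le_sup_right : zpowers D.z ≤ _)
  obtain ⟨k, hk⟩ := (IsPGroup.iff_card).1 (D.isPGroup.to_subgroup D.E)
  have h3 : Nat.card (zpowers D.z) < Nat.card D.E := by
    refine lt_of_le_of_ne (Nat.card_mono (Set.toFinite _) (le_sup_right : zpowers D.z ≤ D.E)) fun heq => D.xz ?_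
    rw [Subgroup.eq_of_le_of_card_ge (le_sup_right : zpowers D.z ≤ D.E) heq.ge]
    exact D.x_mem
  rw [D.card_zpowers_z] at h3
  have hk1 : 1 < k := by
    rw [← Nat.pow_lt_pow_iff_right (show 1 < 7 by norm_num), pow_one, ← hk]
    exact h3
  have hk2 : k ≤ 2 := by
    rw [← Nat.pow_le_pow_iff_right (show 1 < 7 by norm_num), ← hk]
    exact h1
  have hk3 : k = 2 := by omega
  rw [hk, hk3]
  norm_num

theorem centralizer_x : centralizer ({D.x} : Set X) = D.E := by
  have hfin := D.finite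
  exact (Subgroup.eq_of_le_of_card_ge D.E_le (by rw [D.card_E]; exact D.cent)).symm

theorem mul_comm_E {a b : X} (ha : a ∈ D.E) (hb : b ∈ D.E) : a * b = b * a := by
  have h1 : D.E ≤ centralizer ({a} : Set X) := by
    refine sup_le (zpowers_le.2 ?_) (zpowers_le.2 ?_)
    · rw [mem_centralizer_singleton_iff]
      exact (mem_centralizer_singleton_iff.1 (D.E_le ha)).symm
    · rw [mem_centralizer_singleton_iff]
      exact D.zc a
  exact (mem_centralizer_singleton_iff.1 (h1 hb)).symm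

theorem mem_E_iff {s : X} : s ∈ D.E ↔ s * D.x = D.x * s := by
  rw [← D.centralizer_x, mem_centralizer_singleton_iff]

/-- every element of `E` is `x ^ i * z ^ j` -/
theorem exists_pow {s : X} (hs : s ∈ D.E) : ∃ i j : ℤ, s = D.x ^ i * D.z ^ j := by
  have hn : (zpowers D.z).Normal := by
    refine ⟨fun n hn g => ?_⟩
    obtain ⟨k, rfl⟩ := mem_zpowers_iff.1 hn
    have h : g * D.z ^ k * g⁻¹ = D.z ^ k := by
      rw [mul_inv_eq_iff_eq_mul]
      exact ((show Commute D.z g from D.zc g).zpow_left k).symm.eq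
    rw [h]
    exact mem_zpowers_iff.2 ⟨k, rfl⟩
  obtain ⟨a, ha, b, hb, rfl⟩ := (mem_sup_of_normal_right).1 hs
  obtain ⟨i, rfl⟩ := mem_zpowers_iff.1 ha
  obtain ⟨j, rfl⟩ := mem_zpowers_iff.1 hb
  exact ⟨i, j, rfl⟩

/-! ### The commutator subgroup -/

theorem card_ker : Nat.card D.π.ker = 7 ^ 4 := by
  have hfin := D.finite
  have h1 := Subgroup.card_mul_index D.π.ker
  rw [Subgroup.index_ker, MonoidHom.range_eq_top.2 D.πs, Nat.card_congr Subgroup.topEquiv.toEquiv] at h1
  have h2 : Nat.card (Multiplicative (ZMod 7 × ZMod 7)) = 49 := by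
    rw [Nat.card_congr Multiplicative.toAdd, Nat.card_prod, Nat.card_zmod]
  rw [h2, D.card] at h1
  omega

theorem eq_conj_iff {s t : X} : s * D.x * s⁻¹ = t * D.x * t⁻¹ ↔ s⁻¹ * t ∈ D.E := by
  rw [D.mem_E_iff]
  constructor
  · intro h
    have h1 : t * D.x = s * D.x * s⁻¹ * t := by rw [h]; group
    rw [mul_assoc, h1]
    group
  · intro h
    have h1 : s * D.x * s⁻¹ * t = t * D.x := by
      calc s * D.x * s⁻¹ * t = s * (D.x * (s⁻¹ * t)) := by group
        _ = s * (s⁻¹ * t * D.x) := by rw [h]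
        _ = t * D.x := by group
    rw [← h1]
    group

theorem π_conj (s t : X) : D.π (s * t * s⁻¹) = D.π t := by
  rw [map_mul, map_mul, map_inv, mul_comm (D.π s), mul_assoc, mul_inv_cancel, mul_one]

/-- the conjugates of `x` are the elements of `(ker π) * x` -/
theorem conj_x {k : X} (hk : D.π k = 1) : ∃ s : X, s * D.x * s⁻¹ = k * D.x := by
  have hfin := D.finite
  let f : X → D.π.ker := fun s => ⟨s * D.x * s⁻¹ * D.x⁻¹, by
    rw [MonoidHom.mem_ker, map_mul, D.π_conj, map_inv, mul_inv_cancel]⟩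
  let g : X ⧸ D.E → D.π.ker := Quotient.lift f (fun a b hab => by
    have h1 : a⁻¹ * b ∈ D.E := QuotientGroup.leftRel_apply.1 hab
    apply Subtype.ext
    show a * D.x * a⁻¹ * D.x⁻¹ = b * D.x * b⁻¹ * D.x⁻¹
    rw [D.eq_conj_iff.2 h1])
  have hg : Function.Injective g := by
    intro a b
    induction a using QuotientGroup.induction_on with
    | H a =>
      induction b using QuotientGroup.induction_on with
      | H b =>
        intro h
        have h1 : a * D.x * a⁻¹ * D.x⁻¹ = b * D.x * b⁻¹ * D.x⁻¹ := congrArg Subtype.val h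
        exact QuotientGroup.eq.2 (D.eq_conj_iff.1 (mul_right_cancel h1))
  have hcard : Nat.card (X ⧸ D.E) = Nat.card D.π.ker := by
    have h1 := Subgroup.card_eq_card_quotient_mul_card_subgroup D.E
    rw [D.card, D.card_E] at h1
    rw [D.card_ker]
    omega
  have hs := ((Nat.bijective_iff_injective_and_card g).2 ⟨hg, hcard⟩).2
  obtain ⟨a, ha⟩ := hs ⟨k, hk⟩
  induction a using QuotientGroup.induction_on with
  | H a =>
    refine ⟨a, ?_⟩
    have h1 : a * D.x * a⁻¹ * D.x⁻¹ = k := congrArg Subtype.val ha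
    rw [← h1]
    group

theorem πx : D.π D.x ≠ 1 := by
  intro h
  obtain ⟨s, hs⟩ := D.conj_x (k := D.x⁻¹) (by rw [map_inv, h, inv_one])
  rw [inv_mul_cancel] at hs
  apply D.x1
  rw [mul_inv_eq_one] at hs
  calc D.x = s⁻¹ * (s * D.x) := by group
    _ = s⁻¹ * s := by rw [hs]
    _ = 1 := inv_mul_cancel s

theorem πz : D.π D.z = 1 := by
  have h := congrArg D.π D.c₁
  rw [map_mul, map_mul, map_mul, mul_comm (D.π D.b₁)] at h
  exact right_eq_mul.1 h

/-- the elements of `E` in the kernel of `π` -/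
theorem mem_zpowers_of_ker {s : X} (hs : s ∈ D.E) (h : D.π s = 1) : s ∈ zpowers D.z := by
  obtain ⟨i, j, rfl⟩ := D.exists_pow hs
  rw [map_mul, map_zpow, map_zpow, D.πz, one_zpow, mul_one] at h
  have h1 : orderOf (D.π D.x) = 7 := orderOf_eq_prime (by rw [← map_pow, D.x7, map_one]) D.πx
  have h2 : (7 : ℤ) ∣ i := by
    rw [← orderOf_dvd_iff_zpow_eq_one, h1] at h
    exact_mod_cast h
  obtain ⟨l, rfl⟩ := h2
  have h3 : D.x ^ (7 * l) = 1 := by
    rw [zpow_mul]
    have : D.x ^ (7 : ℤ) = 1 := by exact_mod_cast D.x7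
    rw [this, one_zpow]
  rw [h3, one_mul]
  exact mem_zpowers_iff.2 ⟨j, rfl⟩

end Data

end Cfsg.Agent.H772.Pearl
end

-- part: H772/PearlCoord
section
/-!
# Coordinates on `E = ⟨x, z⟩` and the action of `SL(2, 7)` (helper772)
-/

set_option autoImplicit false

namespace Cfsg.Agent.H772.Pearl

open Subgroup

theorem pow_add_val {X : Type*} [Group X] {g : X} (h : g ^ 7 = 1) (a b : ZMod 7) :
    g ^ (a + b).val = g ^ a.val * g ^ b.val := by
  rw [← pow_add, pow_eq_pow_mod (a.val + b.val) h, ZMod.val_add]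

theorem pow_val_natCast {X : Type*} [Group X] {g : X} (h : g ^ 7 = 1) (n : ℕ) :
    g ^ ((n : ZMod 7)).val = g ^ n := by
  rw [ZMod.val_natCast, ← pow_eq_pow_mod n h]

theorem pow_mul_val {X : Type*} [Group X] {g : X} (h : g ^ 7 = 1) (a b : ZMod 7) :
    g ^ (a * b).val = (g ^ a.val) ^ b.val := by
  rw [← pow_mul, pow_eq_pow_mod (a.val * b.val) h, ZMod.val_mul]

theorem eq_zero_of_pow_val {X : Type*} [Group X] {g : X} (h : g ^ 7 = 1) (h1 : g ≠ 1) {a : ZMod 7}
    (ha : g ^ a.val = 1) : a = 0 := by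
  have ho : orderOf g = 7 := orderOf_eq_prime h h1
  have h2 := orderOf_dvd_of_pow_eq_one ha
  rw [ho] at h2
  have h3 := ZMod.val_lt a
  have h4 : a.val = 0 := Nat.eq_zero_of_dvd_of_lt h2 h3
  exact (ZMod.val_eq_zero a).1 h4

namespace Data

variable {X : Type*} [Group X] (D : Data X)

/-- the plane -/
abbrev V := Fin 2 → ZMod 7

/-- the element with given coordinates -/
def pt (i j : ZMod 7) : D.E :=
  ⟨D.x ^ i.val * D.z ^ j.val, mul_mem (pow_mem D.x_mem _) (pow_mem D.z_mem _)⟩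

theorem coe_pt (i j : ZMod 7) : (D.pt i j : X) = D.x ^ i.val * D.z ^ j.val := rfl

theorem pt_mul (i j k l : ZMod 7) : D.pt i j * D.pt k l = D.pt (i + k) (j + l) := by
  apply Subtype.ext
  show D.x ^ i.val * D.z ^ j.val * (D.x ^ k.val * D.z ^ l.val) = D.x ^ (i + k).val * D.z ^ (j + l).val
  rw [pow_add_val D.x7, pow_add_val D.z7]
  have h : D.z ^ j.val * D.x ^ k.val = D.x ^ k.val * D.z ^ j.val :=
    ((show Commute D.z D.x from D.zc D.x).pow_pow _ _).eq
  calc _ = D.x ^ i.val * (D.z ^ j.val * D.x ^ k.val) * D.z ^ l.val := by group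
    _ = D.x ^ i.val * (D.x ^ k.val * D.z ^ j.val) * D.z ^ l.val := by rw [h]
    _ = _ := by group

theorem pt_eq_one {i j : ZMod 7} (h : D.pt i j = 1) : i = 0 ∧ j = 0 := by
  have h1 : D.x ^ i.val * D.z ^ j.val = 1 := congrArg Subtype.val h
  have h2 := congrArg D.π h1
  rw [map_mul, map_pow, map_pow, D.πz, one_pow, mul_one, map_one] at h2
  have hi : i = 0 := eq_zero_of_pow_val (by rw [← map_pow, D.x7, map_one]) D.πx h2
  subst hi
  rw [ZMod.val_zero, pow_zero, one_mul] at h1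
  exact ⟨rfl, eq_zero_of_pow_val D.z7 D.z1 h1⟩

/-- coordinates, as a homomorphism -/
def e₀ : Multiplicative V →* D.E where
  toFun v := D.pt (v.toAdd 0) (v.toAdd 1)
  map_one' := by
    apply Subtype.ext
    show D.x ^ (0 : ZMod 7).val * D.z ^ (0 : ZMod 7).val = 1
    rw [ZMod.val_zero, pow_zero, pow_zero, one_mul]
  map_mul' v w := (D.pt_mul _ _ _ _).symm

theorem e₀_bijective : Function.Bijective D.e₀ := by
  have hfin := D.finite
  rw [Nat.bijective_iff_injective_and_card]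
  constructor
  · rw [injective_iff_map_eq_one]
    intro v hv
    obtain ⟨h0, h1⟩ := D.pt_eq_one hv
    apply Multiplicative.toAdd.injective
    funext i
    fin_cases i
    · exact h0
    · exact h1
  · rw [D.card_E, Nat.card_congr Multiplicative.toAdd, Nat.card_fun, Nat.card_zmod]
    simp

/-- coordinates -/
noncomputable def e : Multiplicative V ≃* D.E := MulEquiv.ofBijective D.e₀ D.e₀_bijective

theorem e_apply (v : V) : D.e (Multiplicative.ofAdd v) = D.pt (v 0) (v 1) := rfl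

theorem exists_pt (y : D.E) : ∃ i j, y = D.pt i j := by
  obtain ⟨v, rfl⟩ := D.e.surjective y
  exact ⟨_, _, rfl⟩

theorem pt_inj {i j k l : ZMod 7} (h : D.pt i j = D.pt k l) : i = k ∧ j = l := by
  have h1 : D.e (Multiplicative.ofAdd ![i, j]) = D.e (Multiplicative.ofAdd ![k, l]) := h
  have h2 := Multiplicative.ofAdd.injective (D.e.injective h1)
  exact ⟨congrFun h2 0, congrFun h2 1⟩

/-- the action of `SL(2, 7)` on the plane, as automorphisms -/
noncomputable def act : Matrix.SpecialLinearGroup (Fin 2) (ZMod 7) →* MulAut (Multiplicative V) where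
  toFun A := AddEquiv.toMultiplicative (Matrix.SpecialLinearGroup.toLin' A).toAddEquiv
  map_one' := by
    apply MulEquiv.ext
    intro v
    show Multiplicative.ofAdd ((Matrix.SpecialLinearGroup.toLin' 1) v.toAdd) = v
    rw [map_one]
    rfl
  map_mul' A B := by
    apply MulEquiv.ext
    intro v
    show Multiplicative.ofAdd ((Matrix.SpecialLinearGroup.toLin' (A * B)) v.toAdd) = _
    rw [map_mul]
    rfl

theorem act_apply (A : Matrix.SpecialLinearGroup (Fin 2) (ZMod 7)) (v : V) :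
    act A (Multiplicative.ofAdd v) = Multiplicative.ofAdd (A.1.mulVec v) := rfl

/-- the action of `SL(2, 7)` on `E` -/
noncomputable def ρ : Matrix.SpecialLinearGroup (Fin 2) (ZMod 7) →* MulAut D.E :=
  (MulAut.congr D.e).toMonoidHom.comp act

theorem ρ_pt (A : Matrix.SpecialLinearGroup (Fin 2) (ZMod 7)) (i j : ZMod 7) :
    D.ρ A (D.pt i j) = D.pt (A.1 0 0 * i + A.1 0 1 * j) (A.1 1 0 * i + A.1 1 1 * j) := by
  have h1 : D.pt i j = D.e (Multiplicative.ofAdd ![i, j]) := rfl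
  rw [h1]
  show D.e (act A (D.e.symm (D.e _))) = _
  rw [D.e.symm_apply_apply, act_apply, e_apply]
  congr 1 <;> simp only [Matrix.mulVec, dotProduct, Fin.sum_univ_two, _root_.Fin.isValue, _root_.Matrix.cons_val_zero, _root_.Matrix.cons_val_one, _root_.Matrix.cons_val_fin_one]

theorem ρ_injective : Function.Injective D.ρ := by
  rw [injective_iff_map_eq_one]
  intro A hA
  have h1 := congrArg (fun f : MulAut D.E => f (D.pt 1 0)) hA
  have h2 := congrArg (fun f : MulAut D.E => f (D.pt 0 1)) hA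
  simp only [ρ_pt, MulAut.one_apply] at h1 h2
  obtain ⟨h3, h4⟩ := D.pt_inj h1
  obtain ⟨h5, h6⟩ := D.pt_inj h2
  simp only [mul_one, mul_zero, add_zero, zero_add] at h3 h4 h5 h6
  ext i j
  (revert i j; simp only [h3, h4, h5, h6, _root_.Fin.forall_fin_succ, _root_.Matrix.SpecialLinearGroup.coe_one, Fin.isValue, _root_.Fin.succ_zero_eq_one, _root_.IsEmpty.forall_iff, _root_.and_true, _root_.Matrix.one_apply_eq, Nat.reduceAdd, _root_.ne_eq, _root_.zero_ne_one, _root_.not_false_eq_true, _root_.Matrix.one_apply_ne, _root_.and_self, _root_.Fin.succ_ne_zero])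

theorem pt_eq (i j : ZMod 7) : D.pt i j = D.pt 1 0 ^ i.val * D.pt 0 1 ^ j.val := by
  apply Subtype.ext
  show D.x ^ i.val * D.z ^ j.val = (D.x ^ (1 : ZMod 7).val * D.z ^ (0 : ZMod 7).val) ^ i.val *
    (D.x ^ (0 : ZMod 7).val * D.z ^ (1 : ZMod 7).val) ^ j.val
  rw [ZMod.val_zero, ZMod.val_one, pow_zero, pow_zero, pow_one, pow_one, mul_one, one_mul]

/-- homomorphisms on `E` agreeing on `x` and `z` are equal -/
theorem hom_ext {H : Type*} [Group H] {α β : D.E →* H} (h1 : α (D.pt 1 0) = β (D.pt 1 0))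
    (h2 : α (D.pt 0 1) = β (D.pt 0 1)) : α = β := by
  apply MonoidHom.ext
  intro y
  obtain ⟨i, j, rfl⟩ := D.exists_pt y
  rw [D.pt_eq, map_mul, map_mul, map_pow, map_pow, map_pow, map_pow, h1, h2]

/-- automorphisms of `E` agreeing on `x` and `z` are equal -/
theorem aut_ext {α β : MulAut D.E} (h1 : α (D.pt 1 0) = β (D.pt 1 0)) (h2 : α (D.pt 0 1) = β (D.pt 0 1)) : α = β := by
  apply MulEquiv.ext
  intro y
  exact DFunLike.congr_fun (D.hom_ext (α := α.toMonoidHom) (β := β.toMonoidHom) h1 h2) y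

theorem coe_pt10 : (D.pt 1 0 : X) = D.x := by
  rw [coe_pt, ZMod.val_zero, ZMod.val_one, pow_zero, pow_one, mul_one]

theorem coe_pt01 : (D.pt 0 1 : X) = D.z := by
  rw [coe_pt, ZMod.val_zero, ZMod.val_one, pow_zero, pow_one, one_mul]

end Data

end Cfsg.Agent.H772.Pearl
end

-- part: H772/PearlSystem
section
/-!
# The fusion system with pearl `E = ⟨x, z⟩` (helper772)

`F₀` = the system of `X ⋊ ⟨τ⟩`; `F` = the system generated by `F₀` and `Δ = SL(2, 7)` acting on `E`.  `F` is saturated and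
`O₇(F) = 1`.
-/

set_option autoImplicit false

namespace Cfsg.Agent.H772.Pearl

open Subgroup Cfsg Cfsg.FusionSystem Cfsg.Agent.H802

namespace Data

variable {X : Type*} [Group X] (D : Data X)

theorem τpow_x (k : ℕ) : (D.τ ^ k) D.x = D.x ^ 3 ^ k := by
  induction k with
  | zero => simp
  | succ k ih => rw [pow_succ, MulAut.mul_apply, D.τx, map_pow, ih, ← pow_mul, pow_succ]

theorem τpow_z (k : ℕ) : (D.τ ^ k) D.z = D.z ^ 5 ^ k := by
  induction k with
  | zero => simp
  | succ k ih => rw [pow_succ, MulAut.mul_apply, D.τz, map_pow, ih, ← pow_mul, pow_succ]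

/-- `τ` on the top subgroup -/
def τt : MulAut ↥(⊤ : Subgroup X) := MulAut.congr Subgroup.topEquiv.symm D.τ

theorem coe_τt_pow (k : ℕ) (y : ↥(⊤ : Subgroup X)) : (((D.τt ^ k) y : ↥(⊤ : Subgroup X)) : X) = (D.τ ^ k) y := by
  unfold τt
  rw [← map_pow]
  rfl

theorem τt_six : D.τt ^ 6 = 1 := by
  unfold τt
  rw [← map_pow, D.τ6, map_one]

/-- the fusion system of `X ⋊ ⟨τ⟩` -/
noncomputable def F₀ : FusionSystem (⊤ : Subgroup X) := H781.semi (zpowers D.τt)

theorem mem_F₀ {P : Subgroup X} {φ : P →* X} :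
    φ ∈ D.F₀.Hom P ↔ ∃ (a : X) (k : ℕ), ∀ y : P, φ y = a * (D.τ ^ k) y * a⁻¹ := by
  unfold F₀
  rw [H781.mem_semi_iff]
  constructor
  · rintro ⟨hP, a, β, hβ, h⟩
    have hfin : IsOfFinOrder D.τt := isOfFinOrder_iff_pow_eq_one.2 ⟨6, by norm_num, D.τt_six⟩
    obtain ⟨k, rfl⟩ := (Submonoid.mem_powers_iff _ _).1 (hfin.mem_powers_iff_mem_zpowers.2 hβ)
    refine ⟨a, k, fun y => ?_⟩
    rw [h, coe_τt_pow]
  · rintro ⟨a, k, h⟩
    refine ⟨le_top, ⟨a, mem_top a⟩, D.τt ^ k, pow_mem (mem_zpowers _) k, fun y => ?_⟩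
    rw [h, coe_τt_pow]

theorem F₀_isSaturated : D.F₀.IsSaturated 7 := by
  have hfin := D.finite
  refine H781.semi_isSaturated (D.isPGroup.to_subgroup _) _ ?_
  rw [Nat.card_zpowers]
  have h : orderOf D.τt ∣ 6 := orderOf_dvd_of_pow_eq_one D.τt_six
  exact Nat.Coprime.of_dvd_left h (by norm_num)

/-- `Δ` -/
noncomputable def Δ : Subgroup (MulAut D.E) := D.ρ.range

/-- primitive root -/
theorem exists_three_pow : ∀ a b : ZMod 7, a * b = 1 → ∃ k : Fin 6, a = 3 ^ k.val ∧ b = 5 ^ k.val := by decide +kernel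

theorem mem_autGroup_F₀ {α : MulAut D.E} : α ∈ D.F₀.autGroup D.E ↔ ∃ A : Matrix.SpecialLinearGroup (Fin 2) (ZMod 7),
    A.1 0 1 = 0 ∧ α = D.ρ A := by
  rw [mem_autGroup_iff _ le_top, mem_F₀]
  constructor
  · rintro ⟨a, k, h⟩
    have hx : ((α (D.pt 1 0) : D.E) : X) = a * D.x ^ 3 ^ k * a⁻¹ := by
      have := h (D.pt 1 0)
      rw [D.coe_pt10, τpow_x] at this
      exact this
    have hz : ((α (D.pt 0 1) : D.E) : X) = D.z ^ 5 ^ k := by
      have := h (D.pt 0 1)
      rw [D.coe_pt01, τpow_z] at this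
      refine this.trans ?_
      rw [mul_inv_eq_iff_eq_mul]
      exact ((show Commute D.z a from D.zc a).pow_left _).symm.eq
    -- the element φ(x) x^{-3^k} of ⟨z⟩
    have hd : ((α (D.pt 1 0) : D.E) : X) * (D.x ^ 3 ^ k)⁻¹ ∈ zpowers D.z := by
      refine D.mem_zpowers_of_ker (mul_mem (α _).2 (_root_.InvMemClass.inv_mem (pow_mem D.x_mem _))) ?_
      rw [hx, map_mul, D.π_conj, map_inv, mul_inv_cancel]
    have hfin := D.finite
    obtain ⟨j, hj⟩ := (Submonoid.mem_powers_iff _ _).1 (mem_powers_iff_mem_zpowers.2 hd)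
    have hx' : ((α (D.pt 1 0) : D.E) : X) = D.x ^ 3 ^ k * D.z ^ j := by
      have h1 : ((α (D.pt 1 0) : D.E) : X) = D.z ^ j * D.x ^ 3 ^ k := by rw [hj]; group
      rw [h1]
      exact ((show Commute D.z D.x from D.zc D.x).pow_pow _ _).eq
    let A : Matrix.SpecialLinearGroup (Fin 2) (ZMod 7) :=
      ⟨!![(3 : ZMod 7) ^ k, 0; (j : ZMod 7), (5 : ZMod 7) ^ k], by
        rw [Matrix.det_fin_two_of, zero_mul, sub_zero, ← mul_pow, show (3 : ZMod 7) * 5 = 1 by decide, one_pow]⟩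
    refine ⟨A, rfl, D.aut_ext ?_ ?_⟩
    · rw [D.ρ_pt]
      apply Subtype.ext
      rw [hx', coe_pt]
      show _ = D.x ^ ((3 : ZMod 7) ^ k * 1 + 0 * 0).val * D.z ^ ((j : ZMod 7) * 1 + (5 : ZMod 7) ^ k * 0).val
      rw [mul_one, mul_zero, add_zero, mul_one, mul_zero, add_zero, pow_val_natCast D.z7,
        show (3 : ZMod 7) ^ k = ((3 ^ k : ℕ) : ZMod 7) by push_cast; rfl, pow_val_natCast D.x7]
    · rw [D.ρ_pt]
      apply Subtype.ext
      rw [hz, coe_pt]
      show _ = D.x ^ ((3 : ZMod 7) ^ k * 0 + 0 * 1).val * D.z ^ ((j : ZMod 7) * 0 + (5 : ZMod 7) ^ k * 1).val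
      rw [mul_one, mul_zero, zero_add, mul_one, mul_zero, zero_add, ZMod.val_zero, pow_zero, one_mul,
        show (5 : ZMod 7) ^ k = ((5 ^ k : ℕ) : ZMod 7) by push_cast; rfl, pow_val_natCast D.z7]
  · rintro ⟨A, hA, rfl⟩
    have hdet : A.1 0 0 * A.1 1 1 = 1 := by
      have := A.2
      rw [Matrix.det_fin_two, hA, zero_mul, sub_zero] at this
      exact this
    obtain ⟨k, hk0, hk1⟩ := exists_three_pow _ _ hdet
    -- choose `s`
    obtain ⟨s, hs⟩ := D.conj_x (k := D.z ^ (A.1 1 0 * 5 ^ k.val).val) (by rw [map_pow, D.πz, one_pow])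
    refine ⟨s, k.val, ?_⟩
    have h1 : s * D.x ^ 3 ^ k.val * s⁻¹ = D.z ^ (A.1 1 0).val * D.x ^ 3 ^ k.val := by
      rw [← conj_pow, hs, ((show Commute D.z D.x from D.zc D.x).pow_left _).mul_pow]
      congr 1
      have h7 : (D.z ^ (A.1 1 0 * 5 ^ k.val).val) ^ 7 = 1 := by rw [← pow_mul, mul_comm, pow_mul, D.z7, one_pow]
      rw [← pow_val_natCast h7, ← pow_mul_val D.z7]
      congr 2
      push_cast
      rw [mul_assoc, ← mul_pow, show (5 : ZMod 7) * 3 = 1 by decide, one_pow, mul_one]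
    let ψ : D.E →* X := ((MulAut.conj s).toMonoidHom.comp (D.τ ^ k.val).toMonoidHom).comp D.E.subtype
    have hψ : ∀ y : D.E, ψ y = s * (D.τ ^ k.val) y * s⁻¹ := fun y => rfl
    have h2 : D.E.subtype.comp (D.ρ A).toMonoidHom = ψ := by
      apply D.hom_ext
      · rw [hψ, D.coe_pt10, τpow_x, h1]
        show ((D.ρ A (D.pt 1 0) : D.E) : X) = _
        rw [D.ρ_pt, coe_pt, hA, hk0, mul_one, mul_zero, add_zero, mul_one, mul_zero, add_zero,
          show (3 : ZMod 7) ^ k.val = ((3 ^ k.val : ℕ) : ZMod 7) by push_cast; rfl, pow_val_natCast D.x7]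
        exact ((show Commute D.x D.z from (D.zc D.x).symm).pow_pow _ _).eq
      · rw [hψ, D.coe_pt01, τpow_z]
        show ((D.ρ A (D.pt 0 1) : D.E) : X) = _
        rw [D.ρ_pt, coe_pt, hA, hk1, mul_one, mul_zero, zero_add, mul_one, mul_zero, zero_add, ZMod.val_zero,
          pow_zero, one_mul, show (5 : ZMod 7) ^ k.val = ((5 ^ k.val : ℕ) : ZMod 7) by push_cast; rfl,
          pow_val_natCast D.z7, eq_mul_inv_iff_mul_eq]
        exact ((show Commute D.z s from D.zc s).pow_left _).eq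
    intro y
    exact DFunLike.congr_fun h2 y

theorem autGroup_F₀_le : D.F₀.autGroup D.E ≤ D.Δ := by
  intro α hα
  obtain ⟨A, -, rfl⟩ := D.mem_autGroup_F₀.1 hα
  exact ⟨A, rfl⟩

/-! ### Conjugates in `F₀` are images under automorphisms -/

theorem exists_aut_of_mem_F₀ {P : Subgroup X} {φ : P →* X} (h : φ ∈ D.F₀.Hom P) :
    ∃ β : MulAut X, (∀ y : P, φ y = β y) ∧ φ.range = P.map β.toMonoidHom := by
  obtain ⟨a, k, h⟩ := D.mem_F₀.1 h
  refine ⟨MulAut.conj a * D.τ ^ k, fun y => h y, ?_⟩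
  ext w
  constructor
  · rintro ⟨y, rfl⟩
    exact ⟨y, y.2, (h y).symm⟩
  · rintro ⟨y, hy, rfl⟩
    exact ⟨⟨y, hy⟩, h ⟨y, hy⟩⟩

theorem centralizer_E : centralizer (D.E : Set X) = D.E := by
  apply le_antisymm
  · intro s hs
    rw [D.mem_E_iff]
    exact (mem_centralizer_iff.1 hs D.x D.x_mem).symm
  · intro s hs
    rw [mem_centralizer_iff]
    intro y hy
    exact D.mul_comm_E hy hs

theorem E_isCentric : D.F₀.IsCentric D.E := by
  refine ⟨le_top, ?_⟩
  rintro Q ⟨φ, hφ, rfl⟩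
  obtain ⟨β, -, hr⟩ := D.exists_aut_of_mem_F₀ hφ
  rw [hr]
  rintro s ⟨-, hs⟩
  have h1 : β.symm s ∈ D.E := by
    rw [← D.centralizer_E, mem_centralizer_iff]
    intro y hy
    apply β.injective
    rw [map_mul, map_mul, MulEquiv.apply_symm_apply]
    exact mem_centralizer_iff.1 hs (β y) ⟨y, hy, rfl⟩
  exact ⟨β.symm s, h1, β.apply_symm_apply s⟩

theorem not_centric_of_lt {P : Subgroup X} (hP : P < D.E) : ¬ D.F₀.IsCentric P := by
  intro h
  apply hP.not_ge
  refine le_trans ?_ (h.2 P (isConj_refl _ le_top))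
  intro y hy
  refine ⟨mem_top _, mem_centralizer_iff.2 fun w hw => D.mul_comm_E (hP.le hw) hy⟩

theorem normalizerIn_map (Q : Subgroup X) (β : MulAut X) :
    normalizerIn (⊤ : Subgroup X) (Q.map β.toMonoidHom) = (normalizerIn ⊤ Q).map β.toMonoidHom := by
  unfold normalizerIn
  rw [top_inf_eq, top_inf_eq]
  ext s
  rw [mem_normalizer_iff]
  constructor
  · intro h
    refine ⟨β.symm s, mem_normalizer_iff.2 fun y => ?_, β.apply_symm_apply s⟩
    have h1 := h (β y)
    have h2 : s * β y * s⁻¹ = β (β.symm s * y * (β.symm s)⁻¹) := by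
      rw [map_mul, map_mul, map_inv, β.apply_symm_apply]
    rw [h2] at h1
    have h3 : ∀ w : X, β w ∈ Q.map β.toMonoidHom ↔ w ∈ Q := by
      intro w
      constructor
      · rintro ⟨v, hv, hvw⟩
        exact β.injective hvw ▸ hv
      · intro hw
        exact ⟨w, hw, rfl⟩
    rwa [h3, h3] at h1
  · rintro ⟨t, ht, rfl⟩ y
    have h1 := (mem_normalizer_iff.1 ht) (β.symm y)
    have h3 : ∀ w : X, w ∈ Q.map β.toMonoidHom ↔ β.symm w ∈ Q := by
      intro w
      constructor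
      · rintro ⟨v, hv, rfl⟩
        show β.symm (β v) ∈ Q
        rwa [β.symm_apply_apply]
      · intro hw
        exact ⟨_, hw, β.apply_symm_apply w⟩
    rw [h3, h3, h1]
    show _ ↔ β.symm (β t * y * (β t)⁻¹) ∈ Q
    rw [map_mul, map_mul, map_inv, β.symm_apply_apply]

theorem E_isFullyNormalized : D.F₀.IsFullyNormalized D.E := by
  refine ⟨le_top, ?_⟩
  rintro Q ⟨φ, hφ, rfl⟩
  obtain ⟨β, -, hr⟩ := D.exists_aut_of_mem_F₀ hφ
  rw [hr, normalizerIn_map]
  exact (Nat.card_congr ((normalizerIn ⊤ D.E).equivMapOfInjective _ β.injective).symm.toEquiv).le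

/-! ### Saturation -/

theorem card_Δ : Nat.card D.Δ = 336 := by
  have h : Nat.card D.Δ = Nat.card (Matrix.SpecialLinearGroup (Fin 2) (ZMod 7)) :=
    (Nat.card_congr (MonoidHom.ofInjective D.ρ_injective).toEquiv).symm
  rw [h, ClassicalGeometry.PSL2Basic.card_SL2, ZMod.card]
  norm_num

/-- an element of order 7 in `Aut_{F₀}(E)` -/
theorem seven_dvd : 7 ∣ Nat.card (D.F₀.autGroup D.E) := by
  have hfin := D.finite
  let A : Matrix.SpecialLinearGroup (Fin 2) (ZMod 7) := ⟨!![1, 0; 1, 1], by simp⟩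
  have hA : A ^ 7 = 1 := by decide +kernel
  have hA1 : A ≠ 1 := by
    intro h
    have h1 : A.1 1 0 = 0 := by rw [h]; rfl
    exact absurd (show (1 : ZMod 7) = 0 from h1) (by decide)
  have hm : D.ρ A ∈ D.F₀.autGroup D.E := D.mem_autGroup_F₀.2 ⟨A, rfl, rfl⟩
  have h2 : (⟨D.ρ A, hm⟩ : D.F₀.autGroup D.E) ^ 7 = 1 := by
    apply Subtype.ext
    show D.ρ A ^ 7 = 1
    rw [← map_pow, hA, map_one]
  have h3 : (⟨D.ρ A, hm⟩ : D.F₀.autGroup D.E) ≠ 1 := by
    intro h
    apply hA1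
    apply D.ρ_injective
    rw [map_one]
    exact congrArg Subtype.val h
  rw [← orderOf_eq_prime h2 h3]
  exact _root_.orderOf_dvd_natCard _

theorem not_dvd_relIndex : ¬ 7 ∣ (D.F₀.autGroup D.E).relIndex D.Δ := by
  have hfin := D.finite
  intro h
  have h1 : Nat.card (D.F₀.autGroup D.E) * (D.F₀.autGroup D.E).relIndex D.Δ = Nat.card D.Δ := by
    have h3 := Subgroup.card_mul_index ((D.F₀.autGroup D.E).subgroupOf D.Δ)
    rw [Nat.card_congr (Subgroup.subgroupOfEquivOfLe D.autGroup_F₀_le).toEquiv] at h3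
    exact h3
  have h2 : 7 * 7 ∣ Nat.card D.Δ := by
    rw [← h1]
    exact mul_dvd_mul D.seven_dvd h
  rw [D.card_Δ] at h2
  norm_num at h2

theorem pow_seven_zmod (a : ZMod 7) (k : ℕ) : a ^ 7 ^ k = a := by
  induction k with
  | zero => simp
  | succ k ih => rw [pow_succ, pow_mul, ih]; exact ZMod.pow_card a

/-- lower triangular matrices of 7-power order -/
theorem entry_of_pow {A : Matrix.SpecialLinearGroup (Fin 2) (ZMod 7)} (hA : A.1 0 1 = 0) {n : ℕ}
    (h : A ^ n = 1) : A.1 0 0 ^ n = 1 := by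
  have h1 : ∀ n : ℕ, (A ^ n).1 0 1 = 0 ∧ (A ^ n).1 0 0 = A.1 0 0 ^ n := by
    intro n
    induction n with
    | zero => simp only [_root_.pow_zero, _root_.Fin.isValue, _root_.Matrix.SpecialLinearGroup.coe_one, _root_.ne_eq, _root_.zero_ne_one, _root_.not_false_eq_true, _root_.Matrix.one_apply_ne, _root_.Matrix.one_apply_eq, _root_.and_self]
    | succ n ih =>
      rw [pow_succ]
      have h2 : (A ^ n * A).1 = (A ^ n).1 * A.1 := rfl
      rw [h2]
      constructor
      · rw [Matrix.mul_apply, Fin.sum_univ_two, ih.1, hA, mul_zero, zero_mul, add_zero]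
      · rw [Matrix.mul_apply, Fin.sum_univ_two, ih.1, ih.2, zero_mul, add_zero, pow_succ]
  rw [← (h1 n).2, h]
  rfl

theorem strong_embedding : ∀ δ ∈ D.Δ, δ ∉ D.F₀.autGroup D.E → ∀ α ∈ D.F₀.autGroup D.E,
    δ * α * δ⁻¹ ∈ D.F₀.autGroup D.E → (∃ k : ℕ, α ^ 7 ^ k = 1) → α = 1 := by
  rintro _ ⟨B, rfl⟩ hδ α hα hδα ⟨k, hk⟩
  obtain ⟨A, hA, rfl⟩ := D.mem_autGroup_F₀.1 hα
  obtain ⟨C, hC, hCe⟩ := D.mem_autGroup_F₀.1 hδα
  have hB : B.1 0 1 ≠ 0 := fun h => hδ (D.mem_autGroup_F₀.2 ⟨B, h, rfl⟩)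
  have hA1 : A ^ 7 ^ k = 1 := D.ρ_injective (by rw [map_pow, hk, map_one])
  have h00 : A.1 0 0 = 1 := by
    have := entry_of_pow hA hA1
    rwa [pow_seven_zmod] at this
  have hdet : A.1 0 0 * A.1 1 1 = 1 := by
    have := A.2
    rw [Matrix.det_fin_two, hA, zero_mul, sub_zero] at this
    exact this
  have h11 : A.1 1 1 = 1 := by rwa [h00, one_mul] at hdet
  have hCB : B * A = C * B := by
    apply D.ρ_injective
    rw [map_mul, map_mul, ← hCe]
    group
  have e1 : (B.1 * A.1) 0 1 = (C.1 * B.1) 0 1 := congrFun (congrFun (congrArg Subtype.val hCB) 0) 1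
  have e2 : (B.1 * A.1) 0 0 = (C.1 * B.1) 0 0 := congrFun (congrFun (congrArg Subtype.val hCB) 0) 0
  rw [Matrix.mul_apply, Matrix.mul_apply, Fin.sum_univ_two, Fin.sum_univ_two, hA, hC, h11] at e1
  rw [Matrix.mul_apply, Matrix.mul_apply, Fin.sum_univ_two, Fin.sum_univ_two, hC, h00] at e2
  have h3 : C.1 0 0 = 1 := by
    have : (C.1 0 0 - 1) * B.1 0 1 = 0 := by linear_combination -e1
    rcases mul_eq_zero.1 this with h | h
    · exact sub_eq_zero.1 h
    · exact absurd h hB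
  have h4 : A.1 1 0 = 0 := by
    rw [h3] at e2
    have : B.1 0 1 * A.1 1 0 = 0 := by linear_combination e2
    rcases mul_eq_zero.1 this with h | h
    · exact absurd h hB
    · exact h
  have h5 : A = 1 := by
    ext i j
    (revert i j; simp only [h00, h11, h4, hA, _root_.Fin.forall_fin_succ, _root_.Matrix.SpecialLinearGroup.coe_one, Fin.isValue, _root_.Fin.succ_zero_eq_one, _root_.IsEmpty.forall_iff, _root_.and_true, _root_.Matrix.one_apply_eq, Nat.reduceAdd, _root_.ne_eq, _root_.zero_ne_one, _root_.not_false_eq_true, _root_.Matrix.one_apply_ne, _root_.and_self, _root_.Fin.succ_ne_zero])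
  rw [h5, map_one]

/-- the system -/
noncomputable def F : FusionSystem (⊤ : Subgroup X) := H775.Ext.ext D.F₀ (le_top : D.E ≤ ⊤) D.Δ

theorem F_isSaturated : D.F.IsSaturated 7 := by
  have hfin := D.finite
  exact H775.Ext.ext_isSaturated (D.isPGroup.to_subgroup _) D.F₀_isSaturated D.E_isFullyNormalized D.E_isCentric
    (fun P hP => D.not_centric_of_lt hP) D.autGroup_F₀_le D.not_dvd_relIndex D.strong_embedding

/-! ### `O₇(F) = 1` -/

theorem not_Δ_le : ¬ D.Δ ≤ D.F₀.autGroup D.E := by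
  intro h
  let A : Matrix.SpecialLinearGroup (Fin 2) (ZMod 7) := ⟨!![1, 1; 0, 1], by simp⟩
  obtain ⟨B, hB, hAB⟩ := D.mem_autGroup_F₀.1 (h ⟨A, rfl⟩)
  have h1 := D.ρ_injective hAB
  have h2 : A.1 0 1 = 1 := rfl
  rw [h1, hB] at h2
  exact absurd h2 (by decide)

/-- `SL(2, 7)` is transitive on the nonzero vectors -/
theorem exists_col (i j : ZMod 7) (h : i ≠ 0 ∨ j ≠ 0) :
    ∃ A : Matrix.SpecialLinearGroup (Fin 2) (ZMod 7), A.1 0 0 = i ∧ A.1 1 0 = j := by
  by_cases hi : i = 0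
  · have hj : j ≠ 0 := by
      rcases h with h | h
      · exact absurd hi h
      · exact h
    exact ⟨⟨!![i, -j⁻¹; j, 0], by rw [Matrix.det_fin_two_of]; field_simp; ring⟩, rfl, rfl⟩
  · exact ⟨⟨!![i, 0; j, i⁻¹], by rw [Matrix.det_fin_two_of]; field_simp; ring⟩, rfl, rfl⟩

theorem irreducible (W : Subgroup D.E) (hW : ∀ δ ∈ D.Δ, ∀ y ∈ W, δ y ∈ W) : W = ⊥ ∨ W = ⊤ := by
  by_cases h : W = ⊥
  · exact Or.inl h
  · right
    obtain ⟨⟨w, hw⟩, hw1⟩ := Subgroup.ne_bot_iff_exists_ne_one.1 h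
    obtain ⟨i, j, rfl⟩ := D.exists_pt w
    have hij : i ≠ 0 ∨ j ≠ 0 := by
      by_contra hc
      push Not at hc
      apply hw1
      apply Subtype.ext
      show D.pt i j = 1
      rw [hc.1, hc.2]
      exact D.e₀.map_one
    obtain ⟨A, hA0, hA1⟩ := exists_col i j hij
    have h10 : D.pt 1 0 ∈ W := by
      have h1 : D.ρ A (D.pt 1 0) = D.pt i j := by
        rw [D.ρ_pt, hA0, hA1, mul_one, mul_zero, add_zero, mul_one, mul_zero, add_zero]
      have h2 := hW (D.ρ A⁻¹) ⟨_, rfl⟩ _ hw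
      rw [← h1, ← MulAut.mul_apply, ← map_mul, inv_mul_cancel, map_one, MulAut.one_apply] at h2
      exact h2
    rw [eq_top_iff]
    rintro y -
    obtain ⟨k, l, rfl⟩ := D.exists_pt y
    by_cases hkl : k ≠ 0 ∨ l ≠ 0
    · obtain ⟨B, hB0, hB1⟩ := exists_col k l hkl
      have h1 : D.ρ B (D.pt 1 0) = D.pt k l := by
        rw [D.ρ_pt, hB0, hB1, mul_one, mul_zero, add_zero, mul_one, mul_zero, add_zero]
      rw [← h1]
      exact hW _ ⟨B, rfl⟩ _ h10
    · push Not at hkl
      rw [hkl.1, hkl.2]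
      have : D.pt 0 0 = 1 := D.e₀.map_one
      rw [this]
      exact one_mem _

theorem not_top_le_normalizer : ¬ (⊤ : Subgroup X) ≤ normalizer (D.E : Set X) := by
  have hfin := D.finite
  intro h
  let f : D.π.ker → D.E := fun k => ⟨(k : X) * D.x, by
    obtain ⟨s, hs⟩ := D.conj_x (k := (k : X)) k.2
    rw [← hs]
    exact (mem_normalizer_iff.1 (h (mem_top s)) D.x).1 D.x_mem⟩
  have hf : Function.Injective f := by
    intro a b hab
    exact Subtype.ext (mul_right_cancel (congrArg Subtype.val hab))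
  have h1 := Nat.card_le_card_of_injective f hf
  rw [D.card_ker, D.card_E] at h1
  norm_num at h1

theorem core_eq_bot : D.F.core = ⊥ := by
  have hfin := D.finite
  exact H775.Ext.ext_core_eq_bot le_top D.not_Δ_le D.irreducible D.not_top_le_normalizer

end Data

end Cfsg.Agent.H772.Pearl
end

-- part: H772/PearlReal
section
/-!
# Realizations of the system with a pearl (helper772)

`Real D ι`: the finite group `G` realizes the system `D.F` through `ι : X →* G`.
-/

set_option autoImplicit false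

namespace Cfsg.Agent.H772.Pearl

open Subgroup Cfsg Cfsg.FusionSystem Cfsg.Agent.H802

universe u v

variable {X : Type u} [Group X] (D : Data X) {G : Type v} [Group G]

/-- `G` realizes `D.F` through `ι` -/
structure Real (ι : X →* G) : Prop where
  inj : Function.Injective ι
  syl : ∃ T : Sylow 7 G, (T : Subgroup G) = ι.range
  iff : ∀ (P : Subgroup X) (φ : P →* X), φ ∈ D.F.Hom P ↔ ∃ g : G, ∀ y : P, ι (φ y) = g * ι y * g⁻¹

theorem exists_real [Fact (Nat.Prime 7)] (h : D.F.IsRealizable 7) :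
    ∃ (G : Type u) (_ : Group G) (_ : Finite G) (ι : X →* G), Real D ι ∧
      ∀ K : Subgroup G, K.Normal → (Nat.card K).Coprime 7 → K = ⊥ := by
  classical
  -- minimal realization
  let Q : ℕ → Prop := fun n => ∃ (G : Type u) (_ : Group G) (_ : Finite G) (ι : ↥(⊤ : Subgroup X) →* G),
    (D.F.IsRealizedBy ι ∧ ∃ T : Sylow 7 G, (T : Subgroup G) = ι.range) ∧ Nat.card G = n
  have hQ : ∃ n, Q n := by
    obtain ⟨G, i1, i2, ι, h1⟩ := h
    exact ⟨_, G, i1, i2, ι, h1, rfl⟩
  obtain ⟨G, i1, i2, ι, ⟨h1, T, hT⟩, hn⟩ := Nat.find_spec hQ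
  refine ⟨G, i1, i2, ι.comp (Subgroup.topEquiv (G := X)).symm.toMonoidHom, ⟨?_, ⟨T, ?_⟩, ?_⟩, ?_⟩
  · exact h1.1.comp (Subgroup.topEquiv (G := X)).symm.injective
  · rw [hT]
    ext w
    constructor
    · rintro ⟨y, rfl⟩
      exact ⟨(y : X), rfl⟩
    · rintro ⟨y, rfl⟩
      exact ⟨_, rfl⟩
  · intro P φ
    exact h1.2 P le_top φ (fun _ => mem_top _)
  · intro K hK hKc
    by_contra hK1
    have hS : IsPGroup 7 ↥(⊤ : Subgroup X) := D.isPGroup.to_subgroup _
    have h2 := H803.isRealizedBy_quotient hS h1 K hKc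
    obtain ⟨T', hT'⟩ := H803.isSylow_quotient T hT K h1.1 h2.1 hKc
    have h3 : Q (Nat.card (G ⧸ K)) := ⟨G ⧸ K, inferInstance, inferInstance, _, ⟨h2, T', hT'⟩, rfl⟩
    have h4 := Nat.find_min' hQ h3
    have h5 : Nat.card G = Nat.card (G ⧸ K) * Nat.card K := Subgroup.card_eq_card_quotient_mul_card_subgroup K
    have h6 : 1 < Nat.card K := (Subgroup.one_lt_card_iff_ne_bot K).2 hK1
    have h7 : 0 < Nat.card (G ⧸ K) := Nat.card_pos
    rw [← hn, h5] at h4
    nlinarith only [h4, h6, h7]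

include D in
theorem isPGroup_range (ι : X →* G) : IsPGroup 7 ι.range :=
  D.isPGroup.of_surjective ι.rangeRestrict ι.rangeRestrict_surjective

namespace Real

variable {D} {ι : X →* G} (R : Real D ι)

include R

theorem exists_hom {P : Subgroup X} {g : G} (h : ∀ y : P, g * ι y * g⁻¹ ∈ ι.range) :
    ∃ φ ∈ D.F.Hom P, ∀ y : P, ι (φ y) = g * ι y * g⁻¹ := by
  let e : X ≃* ι.range := MonoidHom.ofInjective R.inj
  let c : P →* ι.range := (((MulAut.conj g).toMonoidHom.comp ι).comp P.subtype).codRestrict ι.range h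
  have hφ : ∀ y : P, ι (e.symm.toMonoidHom.comp c y) = g * ι y * g⁻¹ := by
    intro y
    have h1 : ((e (e.symm (c y)) : ι.range) : G) = g * ι y * g⁻¹ := by
      rw [e.apply_symm_apply]
      rfl
    exact h1
  exact ⟨e.symm.toMonoidHom.comp c, (R.iff P _).2 ⟨g, hφ⟩, hφ⟩

theorem card_range : Nat.card ι.range = 7 ^ 6 := by
  rw [← D.card]
  exact (Nat.card_congr (MonoidHom.ofInjective R.inj).toEquiv).symm

/-- the element inducing `τ` -/
theorem exists_t : ∃ t : G, ∀ y : X, ι (D.τ y) = t * ι y * t⁻¹ := by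
  have h : (D.τ.toMonoidHom.comp (⊤ : Subgroup X).subtype) ∈ D.F.Hom ⊤ :=
    H775.Ext.le_ext le_top _ (D.mem_F₀.2 ⟨1, 1, fun y => by simp only [_root_.MulEquiv.toMonoidHom_eq_coe, _root_.MonoidHom.coe_comp, _root_.MonoidHom.coe_coe, _root_.Subgroup.coe_subtype, _root_.Function.comp_apply, _root_.pow_one, _root_.one_mul, _root_.inv_one, _root_.mul_one]⟩)
  obtain ⟨t, ht⟩ := (R.iff _ _).1 h
  exact ⟨t, fun y => ht ⟨y, mem_top y⟩⟩

/-- the elements inducing `Δ` -/
theorem exists_g (A : Matrix.SpecialLinearGroup (Fin 2) (ZMod 7)) :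
    ∃ g : G, ∀ y : D.E, ι (D.ρ A y : D.E) = g * ι y * g⁻¹ := by
  have h : D.E.subtype.comp (D.ρ A).toMonoidHom ∈ D.F.Hom D.E :=
    H775.Ext.delta_mem_ext le_top (show D.ρ A ∈ D.Δ from ⟨A, rfl⟩)
  obtain ⟨t, ht⟩ := (R.iff _ _).1 h
  exact ⟨t, fun y => ht y⟩

theorem exists_A {g : G} (h : ∀ y ∈ D.E, g * ι y * g⁻¹ ∈ D.E.map ι) :
    ∃ A : Matrix.SpecialLinearGroup (Fin 2) (ZMod 7), ∀ y : D.E, ι (D.ρ A y : D.E) = g * ι y * g⁻¹ := by
  have hfin := D.finite
  obtain ⟨φ, hφ, he⟩ := R.exists_hom (P := D.E) (g := g) (fun y => by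
    obtain ⟨w, -, hw⟩ := h y y.2
    exact ⟨w, hw⟩)
  have hm : ∀ y : D.E, φ y ∈ D.E := by
    intro y
    obtain ⟨w, hw, hwe⟩ := h y y.2
    rw [← he y] at hwe
    rw [← R.inj hwe]
    exact hw
  obtain ⟨a, ha, hae⟩ := exists_aut hφ (range_eq_of_mapsTo hφ hm)
  have h1 : a ∈ D.Δ := by
    rw [← H775.Ext.ext_autGroup (le_top : D.E ≤ ⊤) D.autGroup_F₀_le]
    exact ha
  obtain ⟨A, rfl⟩ := h1
  refine ⟨A, fun y => ?_⟩
  rw [hae, he]

/-- maps whose source is not conjugate into `E` come from `X ⋊ ⟨τ⟩` -/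
theorem exists_F₀ {P : Subgroup X} (hP : ¬ H775.Ext.Sub D.F₀ D.E P) {g : G} (h : ∀ y : P, g * ι y * g⁻¹ ∈ ι.range) :
    ∃ (a : X) (k : ℕ), ∀ y : P, g * ι y * g⁻¹ = ι (a * (D.τ ^ k) y * a⁻¹) := by
  obtain ⟨φ, hφ, he⟩ := R.exists_hom h
  obtain ⟨a, k, hk⟩ := D.mem_F₀.1 (H775.Ext.mem_of_not_sub le_top hφ hP)
  exact ⟨a, k, fun y => by rw [← he, hk]⟩

/-- every 7-subgroup is conjugate into the image of `X` -/
theorem exists_conj [Finite G] {Y : Subgroup G} (hY : IsPGroup 7 Y) : ∃ g : G, ∀ y ∈ Y, g * y * g⁻¹ ∈ ι.range := by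
  obtain ⟨T, hT⟩ := R.syl
  obtain ⟨Q, hQ⟩ := hY.exists_le_sylow
  obtain ⟨g, hg⟩ := MulAction.exists_smul_eq G Q T
  refine ⟨g, fun y hy => ?_⟩
  rw [← hT, ← hg, Sylow.coe_subgroup_smul]
  exact Subgroup.smul_mem_pointwise_smul y (MulAut.conj g) _ (hQ hy)

/-- a 7-subgroup centralizing `E` lies in `E` -/
theorem le_E [Finite G] {Y : Subgroup G} (hY : IsPGroup 7 Y) (hc : ∀ y ∈ Y, ∀ e ∈ D.E, y * ι e = ι e * y) :
    Y ≤ D.E.map ι := by
  have hfin := D.finite
  have hEp : IsPGroup 7 (D.E.map ι) := (D.isPGroup.to_subgroup _).map ι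
  have hN : Y ≤ normalizer ((D.E.map ι : Subgroup G) : Set G) := by
    intro y hy
    rw [mem_normalizer_iff]
    have h1 : ∀ w ∈ D.E.map ι, y * w * y⁻¹ = w := by
      rintro _ ⟨e, he, rfl⟩
      rw [hc y hy e he, mul_inv_cancel_right]
    intro w
    constructor
    · intro hw
      rw [h1 w hw]
      exact hw
    · intro hw
      have h2 := h1 _ hw
      have h3 : y * w * y⁻¹ = w := by
        have h4 : y * (y * w * y⁻¹) = (y * w * y⁻¹) * y := by
          rw [mul_inv_eq_iff_eq_mul] at h2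
          exact h2
        have h5 : y * w * y⁻¹ * y = y * w := by group
        rw [h5] at h4
        exact mul_left_cancel h4
      rw [← h3]
      exact hw
  have hW : IsPGroup 7 (Y ⊔ D.E.map ι : Subgroup G) := hY.to_sup_of_normal_right' hEp hN
  obtain ⟨g, hg⟩ := R.exists_conj hW
  have hgE : ∀ y : D.E, g * ι y * g⁻¹ ∈ ι.range := fun y => hg _ (mem_sup_right ⟨y, y.2, rfl⟩)
  obtain ⟨φ, hφ, he⟩ := R.exists_hom hgE
  have hcen : D.F.IsCentric D.E :=
    (H775.Ext.ext_isCentric_iff le_top D.autGroup_F₀_le D.E_isCentric (fun P hP => D.not_centric_of_lt hP)).2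
      D.E_isCentric
  have h1 := hcen.2 φ.range ⟨φ, hφ, rfl⟩
  intro y hy
  obtain ⟨w, hw⟩ := hg y (mem_sup_left hy)
  have h2 : w ∈ φ.range := by
    apply h1
    refine ⟨mem_top _, mem_centralizer_iff.2 ?_⟩
    rintro _ ⟨v, rfl⟩
    apply R.inj
    rw [map_mul, map_mul, hw, he]
    have h3 := hc y hy v v.2
    calc g * ι v * g⁻¹ * (g * y * g⁻¹) = g * (ι v * y) * g⁻¹ := by group
      _ = g * (y * ι v) * g⁻¹ := by rw [h3]
      _ = _ := by group
  obtain ⟨v, rfl⟩ := h2
  rw [he] at hw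
  have h4 : ι v = y := by
    calc ι v = g⁻¹ * (g * ι v * g⁻¹) * g := by group
      _ = g⁻¹ * (g * y * g⁻¹) * g := by rw [hw]
      _ = y := by group
  exact ⟨v, v.2, h4⟩

theorem realized : D.F.IsRealizedBy (ι.comp (Subgroup.topEquiv (G := X)).toMonoidHom) :=
  ⟨R.inj.comp (Subgroup.topEquiv (G := X)).injective, fun P _ φ _ => R.iff P φ⟩

/-- `O₇(G) = 1` -/
theorem eq_bot_of_normal [Finite G] {K : Subgroup G} [hK : K.Normal] (hKp : IsPGroup 7 K) : K = ⊥ := by
  obtain ⟨g, hg⟩ := R.exists_conj hKp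
  have hKS : K ≤ ι.range := by
    intro y hy
    have h1 := hg (g⁻¹ * y * g) (by
      have := hK.conj_mem y hy g⁻¹
      rwa [inv_inv] at this)
    have h2 : g * (g⁻¹ * y * g) * g⁻¹ = y := by group
    rwa [h2] at h1
  have hn : D.F.IsNormal (K.comap ι) := by
    refine H973.isNormal_of_realized (R.realized) (N := K) (Q := K.comap ι) le_top ?_
    ext y
    constructor
    · rintro ⟨w, hw, rfl⟩
      exact hw
    · intro hy
      obtain ⟨w, rfl⟩ := hKS hy
      exact ⟨⟨w, mem_top w⟩, hy, rfl⟩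
  have h1 : K.comap ι ≤ ⊥ := by
    rw [← D.core_eq_bot]
    exact le_sSup hn
  rw [eq_bot_iff]
  intro y hy
  obtain ⟨w, rfl⟩ := hKS hy
  have h2 : w ∈ K.comap ι := hy
  have h3 := h1 h2
  rw [mem_bot] at h3 ⊢
  rw [h3, map_one]

end Real

end Cfsg.Agent.H772.Pearl
end

-- part: H772/PearlMin
section
/-!
# A group realizing the system with a pearl has a simple normal subgroup containing `x` (helper772)
-/

set_option autoImplicit false

namespace Cfsg.Agent.H772.Pearl

open Subgroup Cfsg Cfsg.FusionSystem Cfsg.Agent.H802 Cfsg.Agent.H386.Factor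

universe u v

variable {X : Type u} [Group X] {D : Data X} {G : Type v} [Group G]

namespace Data

/-- the centre of `X` is `⟨z⟩` -/
theorem mem_zpowers_of_central {s : X} (hs : ∀ y, s * y = y * s) : s ∈ zpowers D.z := by
  have hfin := D.finite
  have hsE : s ∈ D.E := D.mem_E_iff.2 (hs _)
  obtain ⟨i, j, hij⟩ := D.exists_pt ⟨s, hsE⟩
  have h1 : s = D.x ^ i.val * D.z ^ j.val := congrArg Subtype.val hij
  by_cases hi : i = 0
  · rw [h1, hi, ZMod.val_zero, pow_zero, one_mul]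
    exact pow_mem (mem_zpowers _) _
  · exfalso
    -- `x` is central
    have h2 : ∀ y, D.x ^ i.val * y = y * D.x ^ i.val := by
      intro y
      have h3 : D.x ^ i.val = s * (D.z ^ j.val)⁻¹ := by rw [h1]; group
      have h4 : Commute (D.z ^ j.val) y := (show Commute D.z y from D.zc y).pow_left _
      rw [h3]
      exact ((show Commute s y from hs y).mul_left h4.inv_left).eq
    have h5 : D.x = (D.x ^ i.val) ^ (i⁻¹).val := by
      rw [← pow_mul_val D.x7, mul_inv_cancel₀ hi, ZMod.val_one, pow_one]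
    have h6 : ∀ y, y * D.x = D.x * y := by
      intro y
      rw [h5]
      exact ((show Commute (D.x ^ i.val) y from h2 y).pow_left _).symm.eq
    have h7 : (⊤ : Subgroup X) ≤ D.E := fun y _ => D.mem_E_iff.2 (h6 y)
    have h8 := card_le_of_le h7
    rw [card_top, D.card, D.card_E] at h8
    norm_num at h8

theorem eq_top_or {K : Subgroup X} (hK : ∀ k, D.π k = 1 → k ∈ K) :
    K = ⊤ ∨ ∀ s, s ∉ K → D.τ s * s⁻¹ ∉ K := by
  by_cases h : K = ⊤
  · exact Or.inl h
  · right
    intro s hs h1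
    apply hs
    -- s ^ 2 ∈ K
    have h2 : D.π (D.τ s * s⁻¹ * (s ^ 2)⁻¹) = 1 := by
      rw [map_mul, map_mul, map_inv, map_inv, D.πτ, map_pow]
      group
    have h3 : s ^ 2 ∈ K := by
      have h4 := mul_mem (_root_.InvMemClass.inv_mem (hK _ h2)) h1
      have h5 : (D.τ s * s⁻¹ * (s ^ 2)⁻¹)⁻¹ * (D.τ s * s⁻¹) = s ^ 2 := by group
      rwa [h5] at h4
    have h6 : s ^ 7 ∈ K := by
      apply hK
      rw [map_pow]
      have : ∀ w : Multiplicative (ZMod 7 × ZMod 7), w ^ 7 = 1 := by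
        intro w
        apply Multiplicative.toAdd.injective
        show 7 • w.toAdd = 0
        ext
        · show 7 • w.toAdd.1 = 0
          rw [nsmul_eq_mul]
          have : ((7 : ℕ) : ZMod 7) = 0 := by decide
          rw [this, zero_mul]
        · show 7 • w.toAdd.2 = 0
          rw [nsmul_eq_mul]
          have : ((7 : ℕ) : ZMod 7) = 0 := by decide
          rw [this, zero_mul]
      exact this _
    have h7 : s ^ 7 * ((s ^ 2) ^ 3)⁻¹ = s := by group
    rw [← h7]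
    exact mul_mem h6 (_root_.InvMemClass.inv_mem (pow_mem h3 3))

end Data

namespace Real

variable {ι : X →* G} (R : Real D ι)

include R

theorem range_sylIn [Finite G] : SylIn 7 ι.range ⊤ := by
  obtain ⟨T, hT⟩ := R.syl
  rw [← hT]
  exact sylIn_top_of_sylow T

theorem nontrivial_G : Nontrivial G := by
  refine ⟨ι D.z, 1, fun h => D.z1 (R.inj ?_)⟩
  rw [h, map_one]

/-- a normal subgroup of order divisible by 7 contains `x` and the kernel of `π` -/
theorem mem_of_dvd [Finite G] {N : Subgroup G} [hN : N.Normal] (h7 : 7 ∣ Nat.card N) :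
    (ι D.z ∈ N) ∧ (ι D.x ∈ N) ∧ ∀ k, D.π k = 1 → ι k ∈ N := by
  have hfin := D.finite
  have hfinN : Finite N := inferInstance
  obtain ⟨⟨y, hyN⟩, hy⟩ := exists_prime_orderOf_dvd_card' 7 h7
  have hy7 : orderOf y = 7 := by rwa [Subgroup.orderOf_mk] at hy
  have hYp : IsPGroup 7 (zpowers y) := IsPGroup.of_card (n := 1) (by rw [Nat.card_zpowers, hy7, pow_one])
  obtain ⟨g, hg⟩ := R.exists_conj hYp
  obtain ⟨w, hw⟩ := hg y (mem_zpowers y)
  have hwN : ι w ∈ N := by rw [hw]; exact hN.conj_mem y hyN g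
  have hw1 : w ≠ 1 := by
    rintro rfl
    rw [map_one] at hw
    have : y = 1 := by
      calc y = g⁻¹ * (g * y * g⁻¹) * g := by group
        _ = 1 := by rw [← hw]; group
    rw [this, orderOf_one] at hy7
    norm_num at hy7
  have hKn : (N.comap ι).Normal := inferInstance
  have hne : N.comap ι ≠ ⊥ := by
    intro h
    apply hw1
    rw [← mem_bot, ← h]
    exact hwN
  have hnil : Group.IsNilpotent X := D.isPGroup.isNilpotent
  have hz : D.z ∈ N.comap ι := by
    have h1 := Cfsg.Agent.Lib.NormalAbelian.normal_inf_center_ne_bot (N.comap ι) hne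
    obtain ⟨⟨c, hc⟩, hc1⟩ := Subgroup.ne_bot_iff_exists_ne_one.1 h1
    have hcz : c ∈ zpowers D.z := Data.mem_zpowers_of_central fun y => (mem_center_iff.1 hc.2 y).symm
    have hc1' : c ≠ 1 := fun h => hc1 (Subtype.ext h)
    have h2 : zpowers c = zpowers D.z := by
      refine Subgroup.eq_of_le_of_card_ge (zpowers_le.2 hcz) ?_
      have h3 : Nat.card (zpowers c) ∣ 7 := by
        rw [← D.card_zpowers_z]
        exact card_dvd_of_le (zpowers_le.2 hcz)
      rcases (Nat.dvd_prime (by norm_num)).1 h3 with h4 | h4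
      · exfalso
        apply hc1'
        rwa [Nat.card_zpowers, orderOf_eq_one_iff] at h4
      · rw [h4, D.card_zpowers_z]
    have h3 : D.z ∈ zpowers c := by rw [h2]; exact mem_zpowers _
    exact (zpowers_le.2 hc.1) h3
  have hx : ι D.x ∈ N := by
    let A : Matrix.SpecialLinearGroup (Fin 2) (ZMod 7) := ⟨!![0, 1; -1, 0], by simp⟩
    obtain ⟨g, hg⟩ := R.exists_g A
    have h1 := hg (D.pt 0 1)
    rw [D.ρ_pt] at h1
    have h2 : D.pt (A.1 0 0 * 0 + A.1 0 1 * 1) (A.1 1 0 * 0 + A.1 1 1 * 1) = D.pt 1 0 := by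
      show D.pt (0 * 0 + 1 * 1) (-1 * 0 + 0 * 1) = D.pt 1 0
      norm_num
    rw [h2, D.coe_pt10, D.coe_pt01] at h1
    rw [h1]
    exact hN.conj_mem _ hz g
  refine ⟨hz, hx, fun k hk => ?_⟩
  obtain ⟨s, hs⟩ := D.conj_x hk
  have h1 : ι (s * D.x * s⁻¹) ∈ N := by
    rw [map_mul, map_mul, map_inv]
    exact hN.conj_mem _ hx _
  rw [hs, map_mul] at h1
  exact (N.mul_mem_cancel_right hx).1 h1

/-- a minimal normal subgroup is nonabelian of order divisible by 7 -/
theorem min_normal [Finite G] (hO : ∀ K : Subgroup G, K.Normal → (Nat.card K).Coprime 7 → K = ⊥)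
    {N : Subgroup G} [hN : N.Normal] (hN1 : N ≠ ⊥) :
    7 ∣ Nat.card N ∧ ¬ ∀ x ∈ N, ∀ y ∈ N, Commute x y := by
  have hfin := D.finite
  have h7 : 7 ∣ Nat.card N := by
    by_contra h
    exact hN1 (hO N hN (((Nat.Prime.coprime_iff_not_dvd (by norm_num)).2 h).symm))
  refine ⟨h7, fun hab => ?_⟩
  -- the elements of order dividing 7
  let K : Subgroup G :=
    { carrier := {n | n ∈ N ∧ n ^ 7 = 1}
      one_mem' := ⟨N.one_mem, one_pow 7⟩
      mul_mem' := by
        rintro a b ⟨ha, ha'⟩ ⟨hb, hb'⟩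
        exact ⟨mul_mem ha hb, by rw [(hab a ha b hb).mul_pow, ha', hb', one_mul]⟩
      inv_mem' := by
        rintro a ⟨ha, ha'⟩
        exact ⟨_root_.InvMemClass.inv_mem ha, by rw [inv_pow, ha', inv_one]⟩ }
  have hK : K.Normal := by
    refine ⟨fun n hn g => ⟨hN.conj_mem n hn.1 g, ?_⟩⟩
    rw [conj_pow, hn.2, mul_one, mul_inv_cancel]
  have hKp : IsPGroup 7 K := by
    rintro ⟨k, hk⟩
    exact ⟨1, Subtype.ext (by rw [pow_one]; exact hk.2)⟩
  have h1 := R.eq_bot_of_normal hKp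
  have h2 : ι D.z ∈ K := ⟨(R.mem_of_dvd h7).1, by rw [← map_pow, D.z7, map_one]⟩
  rw [h1, mem_bot] at h2
  exact D.z1 (R.inj (by rw [h2, map_one]))

/-- **A minimal normal subgroup is simple.** -/
theorem isSimple_of_minimal [Finite G] {N : Subgroup G} [hN : N.Normal]
    (hmin : ∀ M : Subgroup G, M.Normal → M ≤ N → M = ⊥ ∨ M = N) (h7 : 7 ∣ Nat.card N)
    (hna : ¬ ∀ x ∈ N, ∀ y ∈ N, Commute x y) : IsSimpleGroup N := by
  have hfin := D.finite
  obtain ⟨T, hT⟩ := exists_factor N hmin hna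
  obtain ⟨hzN, hxN, hkN⟩ := R.mem_of_dvd h7
  by_cases hTN : T = N
  · subst hTN
    have hnt : Nontrivial T := by
      refine ⟨⟨ι D.z, hzN⟩, 1, fun h => D.z1 (R.inj ?_)⟩
      rw [map_one]
      exact congrArg Subtype.val h
    refine ⟨fun K hK => ?_⟩
    rcases hT.simple (K.map T.subtype) (by rintro _ ⟨y, -, rfl⟩; exact y.2) (by
      rintro t ht _ ⟨k, hk, rfl⟩
      exact ⟨⟨t, ht⟩ * k * ⟨t, ht⟩⁻¹, hK.conj_mem k hk _, rfl⟩) with h | h
    · left
      rwa [Subgroup.map_eq_bot_iff_of_injective _ T.subtype_injective] at h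
    · right
      rw [eq_top_iff]
      intro k _
      have h1 : (k : G) ∈ K.map T.subtype := by rw [h]; exact k.2
      obtain ⟨k', hk', he⟩ := h1
      have : k' = k := Subtype.ext he
      rwa [← this]
  · exfalso
    -- the complement
    let C : Subgroup G := N ⊓ centralizer (T : Set G)
    have hCn : ∀ n ∈ N, ∀ c ∈ C, n * c * n⁻¹ ∈ C := by
      rintro n hn c ⟨hcN, hc⟩
      refine ⟨N.mul_mem (N.mul_mem hn hcN) (N.inv_mem hn), mem_centralizer_iff.2 fun t ht => ?_⟩
      have h1 := mem_centralizer_iff.1 hc (n⁻¹ * t * n) (by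
        have := hT.norm n⁻¹ (N.inv_mem hn) t ht
        rwa [inv_inv] at this)
      calc t * (n * c * n⁻¹) = n * ((n⁻¹ * t * n) * c) * n⁻¹ := by group
        _ = n * (c * (n⁻¹ * t * n)) * n⁻¹ := by rw [h1]
        _ = n * c * n⁻¹ * t := by group
    -- some conjugate of `T` centralizes `T`
    obtain ⟨g, hg⟩ : ∃ g : G, ∀ s ∈ T, ∀ t ∈ T, s * (g * t * g⁻¹) = (g * t * g⁻¹) * s := by
      by_contra hcon
      push Not at hcon
      apply hTN
      refine le_antisymm hT.le (hT.gen T fun g t ht => ?_)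
      rcases hT.conj g with h | h
      · exact h t ht
      · obtain ⟨s, hs, t', ht', hne⟩ := hcon g
        exact absurd (h s hs t' ht') hne
    -- 7 divides |T|
    have h7T : 7 ∣ Nat.card T := by
      by_contra hndvd
      have key : ∀ h : G, ∀ t ∈ T, (h * t * h⁻¹) * ι D.z = ι D.z * (h * t * h⁻¹) := by
        intro h t ht
        have hzh : h⁻¹ * ι D.z * h ∈ N := by
          have := hN.conj_mem _ hzN h⁻¹
          rwa [inv_inv] at this
        obtain ⟨l, hl, c, hcN, hc, hlc⟩ := hT.split _ hzh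
        have hcom : Commute l c := (hc l hl).symm
        have h1 : l ^ 7 * c ^ 7 = 1 := by
          rw [← hcom.mul_pow, ← hlc]
          have : h⁻¹ * ι D.z * h = h⁻¹ * ι D.z * (h⁻¹)⁻¹ := by rw [inv_inv]
          rw [this, conj_pow, ← map_pow, D.z7, map_one, mul_one, mul_inv_cancel]
        have h2 : l ^ 7 = 1 := by
          refine hT.centerless _ (pow_mem hl 7) fun t ht => ?_
          have h3 : l ^ 7 = (c ^ 7)⁻¹ := eq_inv_of_mul_eq_one_left h1
          rw [h3]
          exact (((show Commute c t from hc t ht).pow_left 7).inv_left).eq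
        have h3 : l = 1 := by
          have h4 : orderOf l ∣ 7 := orderOf_dvd_of_pow_eq_one h2
          have h5 : orderOf l ∣ Nat.card T := by
            rw [← Subgroup.orderOf_mk l hl]
            exact _root_.orderOf_dvd_natCard _
          rcases (Nat.dvd_prime (by norm_num)).1 h4 with h6 | h6
          · exact orderOf_eq_one_iff.1 h6
          · exact absurd (h6 ▸ h5) hndvd
        rw [h3, one_mul] at hlc
        have h6 : (h⁻¹ * ι D.z * h) * t = t * (h⁻¹ * ι D.z * h) := by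
          rw [hlc]
          exact hc t ht
        calc (h * t * h⁻¹) * ι D.z = h * (t * (h⁻¹ * ι D.z * h)) * h⁻¹ := by group
          _ = h * ((h⁻¹ * ι D.z * h) * t) * h⁻¹ := by rw [h6]
          _ = _ := by group
      have h1 : N ≤ centralizer ({ι D.z} : Set G) :=
        hT.gen _ fun h t ht => mem_centralizer_singleton_iff.2 (key h t ht)
      have h2 := eq_bot_of_abelian hmin hna hT (K := zpowers (ι D.z)) (zpowers_le.2 hzN) (by
        rintro n hn _ ⟨k, rfl⟩
        have h3 : n * ι D.z = ι D.z * n := mem_centralizer_singleton_iff.1 (h1 hn)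
        have h4 : n * (ι D.z) ^ k * n⁻¹ = (ι D.z) ^ k := by
          rw [mul_inv_eq_iff_eq_mul]
          exact ((show Commute n (ι D.z) from h3).zpow_right k).eq
        show n * (ι D.z) ^ k * n⁻¹ ∈ _
        rw [h4]
        exact ⟨k, rfl⟩) (by
        rintro _ ⟨k, rfl⟩ _ ⟨l, rfl⟩
        exact (Commute.refl (ι D.z)).zpow_zpow k l)
      rw [zpowers_eq_bot] at h2
      exact D.z1 (R.inj (by rw [h2, map_one]))
    -- Sylow subgroup of `N`
    have hS : SylIn 7 (ι.range ⊓ N) N := R.range_sylIn.inf_normal le_top (fun k _ m hm => hN.conj_mem m hm k)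
    have hfinN : Finite N := inferInstance
    -- nontrivial elements
    have hel : ∀ L : Subgroup G, L ≤ N → (∀ n ∈ N, ∀ l ∈ L, n * l * n⁻¹ ∈ L) → 7 ∣ Nat.card L →
        ∃ w : X, w ≠ 1 ∧ ι w ∈ L := by
      intro L hLN hLn hL7
      have hfinL : Finite L := inferInstance
      obtain ⟨⟨y, hyL⟩, hy⟩ := exists_prime_orderOf_dvd_card' 7 hL7
      have hy7 : orderOf y = 7 := by rwa [Subgroup.orderOf_mk] at hy
      have hYp : IsPGroup 7 (zpowers y) := IsPGroup.of_card (n := 1) (by rw [Nat.card_zpowers, hy7, pow_one])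
      obtain ⟨n, hn, hk⟩ := hS.exists_conj (zpowers_le.2 (hLN hyL)) hYp
      obtain ⟨⟨w, hw⟩, -⟩ := hk y (mem_zpowers y)
      refine ⟨w, ?_, hw ▸ hLn n hn y hyL⟩
      rintro rfl
      rw [map_one] at hw
      have : y = 1 := by
        calc y = n⁻¹ * (n * y * n⁻¹) * n := by group
          _ = 1 := by rw [← hw]; group
      rw [this, orderOf_one] at hy7
      norm_num at hy7
    have hC7 : 7 ∣ Nat.card C := by
      have h1 : T.map (MulAut.conj g).toMonoidHom ≤ C := by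
        rintro _ ⟨t, ht, rfl⟩
        exact ⟨hN.conj_mem _ (hT.le ht) g, mem_centralizer_iff.2 fun s hs => hg s hs t ht⟩
      have h2 := card_dvd_of_le h1
      rw [card_map_conj] at h2
      exact h7T.trans h2
    obtain ⟨w₁, hw₁, hw₁T⟩ := hel T hT.le hT.norm h7T
    obtain ⟨w₂, hw₂, hw₂C⟩ := hel C inf_le_left hCn hC7
    -- inside the `p`-group `K`
    let K : Subgroup X := N.comap ι
    have hcen : ∀ L : Subgroup G, (∀ n ∈ N, ∀ l ∈ L, n * l * n⁻¹ ∈ L) → (∃ w : X, w ≠ 1 ∧ ι w ∈ L ∧ ι w ∈ N) →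
        ∃ c : X, c ≠ 1 ∧ ι c ∈ L ∧ ∀ k ∈ K, c * k = k * c := by
      rintro L hLn ⟨w, hw, hwL, hwN⟩
      have hn : ((L.comap ι).subgroupOf K).Normal := by
        refine ⟨fun l hl k => ?_⟩
        show ι (((k * l * k⁻¹ : K) : X)) ∈ L
        have h1 : ι (((k * l * k⁻¹ : K) : X)) = ι (k : X) * ι (l : X) * (ι (k : X))⁻¹ := by simp only [_root_.Subgroup.coe_mul, _root_.InvMemClass.coe_inv, _root_.map_mul, _root_.map_inv]
        rw [h1]
        exact hLn _ k.2 _ hl
      have hne : (L.comap ι).subgroupOf K ≠ ⊥ := by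
        intro h
        have h1 : (⟨w, hwN⟩ : K) ∈ (L.comap ι).subgroupOf K := hwL
        rw [h, mem_bot] at h1
        exact hw (congrArg Subtype.val h1)
      have hnil : Group.IsNilpotent K := (D.isPGroup.to_subgroup K).isNilpotent
      have h1 := Cfsg.Agent.Lib.NormalAbelian.normal_inf_center_ne_bot _ hne
      obtain ⟨⟨c, hc⟩, hc1⟩ := Subgroup.ne_bot_iff_exists_ne_one.1 h1
      refine ⟨c, fun h => hc1 (Subtype.ext (Subtype.ext h)), hc.1, fun k hk => ?_⟩
      exact (congrArg Subtype.val (mem_center_iff.1 hc.2 ⟨k, hk⟩)).symm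
    obtain ⟨c₁, hc₁, hc₁T, hc₁K⟩ := hcen T hT.norm ⟨w₁, hw₁, hw₁T, hT.le hw₁T⟩
    obtain ⟨c₂, hc₂, hc₂C, hc₂K⟩ := hcen C hCn ⟨w₂, hw₂, hw₂C, hw₂C.1⟩
    have hc₁E : c₁ ∈ D.E := D.mem_E_iff.2 (hc₁K _ hxN)
    have hc₂E : c₂ ∈ D.E := D.mem_E_iff.2 (hc₂K _ hxN)
    -- `⟨c₁, c₂⟩ = E`
    have hTC : T ⊓ C = ⊥ := by
      rw [eq_bot_iff]
      rintro y ⟨hyT, hyC⟩
      rw [mem_bot]
      exact hT.centerless y hyT fun t ht => (mem_centralizer_iff.1 hyC.2 t ht).symm
    have hE : D.E ≤ zpowers c₁ ⊔ zpowers c₂ := by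
      have h1 : zpowers c₁ ⊔ zpowers c₂ ≤ D.E := sup_le (zpowers_le.2 hc₁E) (zpowers_le.2 hc₂E)
      refine (Subgroup.eq_of_le_of_card_ge h1 ?_).ge
      have h2 : 7 ≤ Nat.card (zpowers c₁) := by
        have h3 : Nat.card (zpowers c₁) ∣ 49 := by rw [← D.card_E]; exact card_dvd_of_le (zpowers_le.2 hc₁E)
        have h4 : Nat.card (zpowers c₁) ≠ 1 := by
          rw [Nat.card_zpowers]
          exact fun h => hc₁ (orderOf_eq_one_iff.1 h)
        rw [show (49 : ℕ) = 7 ^ 2 by norm_num] at h3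
        obtain ⟨k, hk, hke⟩ := (Nat.dvd_prime_pow (by norm_num)).1 h3
        interval_cases k <;> omega
      have h3 : zpowers c₁ < zpowers c₁ ⊔ zpowers c₂ := by
        refine lt_of_le_of_ne le_sup_left fun h => hc₂ ?_
        have h4 : c₂ ∈ zpowers c₁ := by rw [h]; exact mem_sup_right (mem_zpowers _)
        have h5 : ι c₂ ∈ T := by
          obtain ⟨k, hk⟩ := mem_zpowers_iff.1 h4
          rw [← hk, map_zpow]
          exact zpow_mem hc₁T k
        have h6 : ι c₂ ∈ T ⊓ C := ⟨h5, hc₂C⟩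
        rw [hTC, mem_bot] at h6
        exact R.inj (by rw [h6, map_one])
      have h4 : Nat.card (zpowers c₁) < Nat.card (zpowers c₁ ⊔ zpowers c₂ : Subgroup X) := by
        refine lt_of_le_of_ne (Nat.card_mono (Set.toFinite _) h3.le) fun heq => ?_
        exact h3.ne (Subgroup.eq_of_le_of_card_ge h3.le heq.ge)
      have h5 : Nat.card (zpowers c₁ ⊔ zpowers c₂ : Subgroup X) ∣ 49 := by rw [← D.card_E]; exact card_dvd_of_le h1
      rw [show (49 : ℕ) = 7 ^ 2 by norm_num] at h5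
      obtain ⟨k, hk, hke⟩ := (Nat.dvd_prime_pow (by norm_num)).1 h5
      rw [D.card_E, hke]
      interval_cases k <;> omega
    -- `K` centralizes `x`
    have hKE : K ≤ D.E := by
      intro k hk
      rw [D.mem_E_iff]
      have h1 : zpowers c₁ ⊔ zpowers c₂ ≤ centralizer ({k} : Set X) := by
        refine sup_le (zpowers_le.2 (mem_centralizer_singleton_iff.2 (hc₁K k hk)))
          (zpowers_le.2 (mem_centralizer_singleton_iff.2 (hc₂K k hk)))
      exact (mem_centralizer_singleton_iff.1 (h1 (hE D.x_mem))).symm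
    have h1 : D.π.ker ≤ D.E := fun k hk => hKE (hkN k hk)
    have h2 := card_le_of_le h1
    rw [D.card_ker, D.card_E] at h2
    norm_num at h2

end Real

end Cfsg.Agent.H772.Pearl
end

-- part: H772/PearlTop
section
/-!
# The simple normal subgroup of a group realizing the system with a pearl contains the Sylow subgroup (helper772)

* `exists_n` : a normal subgroup `N` of order divisible by 7 induces `SL(2, 7)` on `E`;
* `comap_eq_top` : such an `N` contains the Sylow subgroup.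
-/

set_option autoImplicit false

namespace Cfsg.Agent.H772.Pearl

open Subgroup Cfsg Cfsg.FusionSystem Cfsg.Agent.H802

universe u v

variable {X : Type u} [Group X] {D : Data X} {G : Type v} [Group G]

namespace Real

variable {ι : X →* G} (R : Real D ι)

include R

/-- the subgroup of `SL(2, 7)` induced by `N` -/
def ind (D : Data X) (ι : X →* G) (N : Subgroup G) : Subgroup (Matrix.SpecialLinearGroup (Fin 2) (ZMod 7)) where
  carrier := {A | ∃ n ∈ N, ∀ y : D.E, ι (D.ρ A y : D.E) = n * ι y * n⁻¹}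
  one_mem' := ⟨1, N.one_mem, fun y => by simp only [_root_.map_one, _root_.MulAut.one_apply, _root_.one_mul, _root_.inv_one, _root_.mul_one]⟩
  mul_mem' := by
    rintro A B ⟨n, hn, h1⟩ ⟨m, hm, h2⟩
    refine ⟨n * m, N.mul_mem hn hm, fun y => ?_⟩
    rw [map_mul, MulAut.mul_apply, h1, h2]
    group
  inv_mem' := by
    rintro A ⟨n, hn, h1⟩
    refine ⟨n⁻¹, N.inv_mem hn, fun y => ?_⟩
    have h2 := h1 (D.ρ A⁻¹ y)
    rw [← MulAut.mul_apply, ← map_mul, mul_inv_cancel, map_one, MulAut.one_apply] at h2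
    rw [h2]
    group

theorem ind_normal (N : Subgroup G) [hN : N.Normal] : (ind D ι N).Normal := by
  refine ⟨?_⟩
  rintro A ⟨n, hn, h1⟩ C
  obtain ⟨g, hg⟩ := R.exists_g C
  refine ⟨g * n * g⁻¹, hN.conj_mem n hn g, fun y => ?_⟩
  have h2 := hg (D.ρ C⁻¹ y)
  rw [← MulAut.mul_apply, ← map_mul, mul_inv_cancel, map_one, MulAut.one_apply] at h2
  rw [map_mul, map_mul, MulAut.mul_apply, MulAut.mul_apply, hg, h1, h2]
  group

theorem exists_n [Finite G] {N : Subgroup G} [hN : N.Normal] (h7 : 7 ∣ Nat.card N)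
    (A : Matrix.SpecialLinearGroup (Fin 2) (ZMod 7)) :
    ∃ n ∈ N, ∀ y : D.E, ι (D.ρ A y : D.E) = n * ι y * n⁻¹ := by
  have hfin := D.finite
  obtain ⟨hzN, hxN, hkN⟩ := R.mem_of_dvd h7
  let K : Subgroup X := N.comap ι
  have hEK : D.E ≤ K := sup_le (zpowers_le.2 hxN) (zpowers_le.2 hzN)
  have hne : D.E ≠ K := by
    intro h
    have h1 : D.π.ker ≤ D.E := fun k hk => h ▸ hkN k hk
    have h2 := card_le_of_le h1
    rw [D.card_ker, D.card_E] at h2
    norm_num at h2
  have hlt := lt_inf_normalizer (S := (⊤ : Subgroup X)) (D.isPGroup.to_subgroup _) hEK le_top hne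
  obtain ⟨s, ⟨hsK, hsN⟩, hsE⟩ := SetLike.exists_of_lt hlt
  obtain ⟨B, hB⟩ := R.exists_A (g := ι s) (fun y hy => ⟨s * y * s⁻¹, (mem_normalizer_iff.1 hsN y).1 hy, by simp only [_root_.map_mul, _root_.map_inv]⟩)
  have hBn : ∀ (n : ℕ) (y : D.E), ι (D.ρ (B ^ n) y : D.E) = ι s ^ n * ι y * (ι s ^ n)⁻¹ := by
    intro n
    induction n with
    | zero => intro y; simp only [_root_.pow_zero, _root_.map_one, _root_.MulAut.one_apply, _root_.one_mul, _root_.inv_one, _root_.mul_one]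
    | succ n ih =>
      intro y
      rw [pow_succ, map_mul, MulAut.mul_apply, ih, hB, pow_succ]
      group
  obtain ⟨k, hk⟩ := D.isPGroup s
  have hBk : B ^ 7 ^ k = 1 := by
    apply D.ρ_injective
    rw [map_one]
    apply MulEquiv.ext
    intro y
    apply Subtype.ext
    apply R.inj
    rw [hBn, ← map_pow, hk, map_one, one_mul, inv_one, mul_one]
    rfl
  have hB1 : B ≠ 1 := by
    rintro rfl
    apply hsE
    rw [D.mem_E_iff]
    have h1 := hB ⟨D.x, D.x_mem⟩
    rw [map_one, MulAut.one_apply] at h1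
    apply R.inj
    rw [map_mul, map_mul]
    have h2 : ι D.x = ι s * ι D.x * (ι s)⁻¹ := h1
    calc ι s * ι D.x = ι s * ι D.x * (ι s)⁻¹ * ι s := by group
      _ = ι D.x * ι s := by rw [← h2]
  have hn := R.ind_normal N
  have hBm : B ∈ ind D ι N := ⟨ι s, hsK, hB⟩
  have hdvd : 7 ∣ Nat.card (ind D ι N) := by
    have h1 : orderOf B ∣ 7 ^ k := orderOf_dvd_of_pow_eq_one hBk
    obtain ⟨j, -, hj⟩ := (Nat.dvd_prime_pow (by norm_num)).1 h1
    have h2 : j ≠ 0 := by
      rintro rfl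
      rw [pow_zero, orderOf_eq_one_iff] at hj
      exact hB1 hj
    have h3 : orderOf B ∣ Nat.card (ind D ι N) := by
      rw [← Subgroup.orderOf_mk B hBm]
      exact _root_.orderOf_dvd_natCard _
    exact (dvd_pow_self 7 h2).trans (hj ▸ h3)
  have htop : ind D ι N = ⊤ := by
    apply PLocal.FFFamily.eq_top_of_normal_of_coprime_index
    intro h
    have h1 := Subgroup.card_mul_index (ind D ι N)
    rw [ClassicalGeometry.PSL2Basic.card_SL2, ZMod.card] at h1
    have h2 := mul_dvd_mul hdvd h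
    rw [h1] at h2
    norm_num at h2
  have h1 : A ∈ ind D ι N := by rw [htop]; exact mem_top A
  exact h1

/-- `t` of order prime to 7 inducing `τ` -/
theorem exists_t' [Finite G] : ∃ t : G, (orderOf t).Coprime 7 ∧ ∀ y : X, ι (D.τ y) = t * ι y * t⁻¹ := by
  obtain ⟨t, ht⟩ := R.exists_t
  have hpow : ∀ (n : ℕ) (y : X), ι ((D.τ ^ n) y) = t ^ n * ι y * (t ^ n)⁻¹ := by
    intro n
    induction n with
    | zero => intro y; simp
    | succ n ih =>
      intro y
      rw [pow_succ, MulAut.mul_apply, ih, ht, pow_succ]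
      group
  set a := (orderOf t).factorization 7 with ha
  have hpos : orderOf t ≠ 0 := (orderOf_pos t).ne'
  refine ⟨t ^ 7 ^ a, ?_, fun y => ?_⟩
  · have h1 : 7 ^ a ∣ orderOf t := Nat.ordProj_dvd _ _
    rw [orderOf_pow' t (pow_ne_zero a (by norm_num)), Nat.gcd_eq_right h1]
    exact (Nat.coprime_ordCompl (by norm_num) hpos).symm
  · rw [← hpow]
    have h1 : ∀ n : ℕ, D.τ ^ 7 ^ n = D.τ := by
      intro n
      induction n with
      | zero => simp
      | succ n ih =>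
        rw [pow_succ, pow_mul, ih]
        calc D.τ ^ 7 = D.τ ^ 6 * D.τ := pow_succ _ _
          _ = D.τ := by rw [D.τ6, one_mul]
    rw [h1]

/-- **A normal subgroup of order divisible by 7 contains the Sylow subgroup.** -/
theorem comap_eq_top [Finite G] {N : Subgroup G} [hN : N.Normal] (h7 : 7 ∣ Nat.card N) : N.comap ι = ⊤ := by
  have hfin := D.finite
  obtain ⟨hzN, hxN, hkN⟩ := R.mem_of_dvd h7
  rcases Data.eq_top_or (K := N.comap ι) hkN with h | hK
  · exact h
  by_contra htop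
  obtain ⟨s, -, hs⟩ := SetLike.exists_of_lt (lt_top_iff_ne_top.2 htop)
  have hu := hK s hs
  obtain ⟨t, htc, ht⟩ := R.exists_t'
  have hfinN : Finite N := inferInstance
  -- the Sylow subgroup of `N`
  set T₀ : Subgroup G := ι.range ⊓ N with hT₀
  have hSN : SylIn 7 T₀ N := R.range_sylIn.inf_normal le_top (fun k _ m hm => hN.conj_mem m hm k)
  set H : Subgroup G := N ⊔ zpowers t with hH
  have hNH : N ≤ H := le_sup_left
  have hfinH : Finite H := inferInstance
  have hSH : SylIn 7 T₀ H := by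
    refine ⟨hSN.le.trans hNH, ?_⟩
    have h1 : Nat.card N * N.relIndex H = Nat.card H := by
      have := Subgroup.relIndex_mul_relIndex (⊥ : Subgroup G) N H bot_le hNH
      rwa [Subgroup.relIndex_bot_left, Subgroup.relIndex_bot_left] at this
    have h2 : N.relIndex H = N.relIndex (zpowers t) := by
      rw [hH, sup_comm]
      exact Subgroup.relIndex_sup_right _ _
    have h3 : N.relIndex (zpowers t) ∣ Nat.card (zpowers t) := Subgroup.relIndex_dvd_card _ _
    rw [Nat.card_zpowers] at h3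
    have h4 : ¬ 7 ∣ N.relIndex H := by
      rw [h2]
      intro h
      have h5 := Nat.Coprime.of_dvd_left h3 htc
      exact absurd (Nat.eq_one_of_dvd_coprimes h5 h (dvd_refl 7)) (by norm_num)
    rw [← h1, Nat.factorization_mul Nat.card_pos.ne' (fun h => h4 (by rw [h]; exact dvd_zero 7)), Finsupp.add_apply,
      Nat.factorization_eq_zero_of_not_dvd h4, add_zero]
    exact hSN.2
  let FH : FusionSystem T₀ := fusionSystemOfSubgroup H T₀ hSH.le
  let FN : FusionSystem T₀ := fusionSystemOfSubgroup N T₀ hSN.le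
  have hFH : FH.IsSaturated 7 := fs_isSaturated hSH
  have hFN : FN.IsSaturated 7 := fs_isSaturated hSN
  have hle : FN ≤ FH := by
    rintro P φ ⟨h1, h2, g, hg, h3⟩
    exact ⟨h1, h2, g, hNH hg, h3⟩
  have hET : D.E.map ι ≤ T₀ := by
    rintro _ ⟨y, hy, rfl⟩
    refine ⟨⟨y, rfl⟩, ?_⟩
    have hEK : D.E ≤ N.comap ι := sup_le (zpowers_le.2 hxN) (zpowers_le.2 hzN)
    exact hEK hy
  have hcen : FH.IsCentric (D.E.map ι) := by
    refine ⟨hET, ?_⟩
    rintro Q ⟨φ, ⟨-, -, h, -, hφ⟩, rfl⟩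
    rintro y ⟨hyT, hy⟩
    have hYp : IsPGroup 7 (zpowers (h⁻¹ * y * h)) := by
      obtain ⟨k, hk⟩ := (isPGroup_range D ι) ⟨y, hyT.1⟩
      have hk' : y ^ 7 ^ k = 1 := congrArg Subtype.val hk
      have h1 : (h⁻¹ * y * h) ^ 7 ^ k = 1 := by
        have : h⁻¹ * y * h = h⁻¹ * y * (h⁻¹)⁻¹ := by rw [inv_inv]
        rw [this, conj_pow, hk', mul_one, mul_inv_cancel]
      obtain ⟨j, -, hj⟩ := (Nat.dvd_prime_pow (by norm_num)).1 (orderOf_dvd_of_pow_eq_one h1)
      exact IsPGroup.of_card (n := j) (by rw [Nat.card_zpowers, hj])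
    have hYE := R.le_E hYp (by
      rintro _ ⟨j, rfl⟩ e he
      have h2 := mem_centralizer_iff.1 hy (φ ⟨ι e, ⟨e, he, rfl⟩⟩) ⟨_, rfl⟩
      rw [hφ] at h2
      have h3 : Commute (h⁻¹ * y * h) (ι e) := by
        show (h⁻¹ * y * h) * ι e = ι e * (h⁻¹ * y * h)
        calc (h⁻¹ * y * h) * ι e = h⁻¹ * (y * (h * ι e * h⁻¹)) * h := by group
          _ = h⁻¹ * ((h * ι e * h⁻¹) * y) * h := by rw [← h2]
          _ = _ := by group
      exact (h3.zpow_left j).eq)
    obtain ⟨e, he, hee⟩ := hYE (mem_zpowers _)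
    refine ⟨⟨ι e, ⟨e, he, rfl⟩⟩, ?_⟩
    rw [hφ]
    show h * ι e * h⁻¹ = y
    rw [hee]
    group
  have hψT : ∀ y : T₀, conjHom T₀ t y ∈ T₀ := by
    rintro ⟨_, ⟨y, rfl⟩, hyN⟩
    refine ⟨⟨D.τ y, (ht y).trans rfl⟩, hN.conj_mem _ hyN t⟩
  have hψ : conjHom T₀ t ∈ FH.Hom T₀ :=
    ⟨le_rfl, hψT, t, mem_sup_right (mem_zpowers t), fun y => rfl⟩
  -- `τ` on `E`
  let A : Matrix.SpecialLinearGroup (Fin 2) (ZMod 7) := ⟨!![3, 0; 0, 5], by rw [Matrix.det_fin_two_of]; decide⟩
  have hAτ : ∀ y : D.E, ((D.ρ A y : D.E) : X) = D.τ y := by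
    intro y
    refine DFunLike.congr_fun (D.hom_ext (α := D.E.subtype.comp (D.ρ A).toMonoidHom)
      (β := D.τ.toMonoidHom.comp D.E.subtype) ?_ ?_) y
    · show ((D.ρ A (D.pt 1 0) : D.E) : X) = D.τ (D.pt 1 0 : D.E)
      rw [D.ρ_pt, D.coe_pt10, D.τx, D.coe_pt]
      show D.x ^ ((3 : ZMod 7) * 1 + 0 * 0).val * D.z ^ ((0 : ZMod 7) * 1 + 5 * 0).val = _
      have e1 : ((3 : ZMod 7) * 1 + 0 * 0).val = 3 := by decide
      have e2 : ((0 : ZMod 7) * 1 + 5 * 0).val = 0 := by decide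
      rw [e1, e2, pow_zero, mul_one]
    · show ((D.ρ A (D.pt 0 1) : D.E) : X) = D.τ (D.pt 0 1 : D.E)
      rw [D.ρ_pt, D.coe_pt01, D.τz, D.coe_pt]
      show D.x ^ ((3 : ZMod 7) * 0 + 0 * 1).val * D.z ^ ((0 : ZMod 7) * 0 + 5 * 1).val = _
      have e1 : ((3 : ZMod 7) * 0 + 0 * 1).val = 0 := by decide
      have e2 : ((0 : ZMod 7) * 0 + 5 * 1).val = 5 := by decide
      rw [e1, e2, pow_zero, one_mul]
  obtain ⟨n₀, hn₀, hn₀e⟩ := R.exists_n h7 A
  have hψE : (conjHom T₀ t).comp (Subgroup.inclusion hET) ∈ FN.Hom (D.E.map ι) := by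
    refine ⟨hET, fun y => hψT _, n₀, hn₀, ?_⟩
    rintro ⟨_, y, hy, rfl⟩
    have h1 := hn₀e ⟨y, hy⟩
    rw [hAτ, ht] at h1
    exact h1
  have hfinT : Finite T₀ := inferInstance
  obtain ⟨-, -, n, hn, hne⟩ := mem_of_restrict_centric (hSN.isPGroup) hFH hFN hle hcen hET hψ hψE
  -- the element `c = n⁻¹ t` centralizes the image of `K`
  have hc : ∀ y : X, ι y ∈ N → (n⁻¹ * t) * ι y = ι y * (n⁻¹ * t) := by
    intro y hy
    have h1 := hne ⟨ι y, ⟨y, rfl⟩, hy⟩
    have h2 : t * ι y * t⁻¹ = n * ι y * n⁻¹ := h1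
    calc (n⁻¹ * t) * ι y = n⁻¹ * (t * ι y * t⁻¹) * t := by group
      _ = n⁻¹ * (n * ι y * n⁻¹) * t := by rw [h2]
      _ = _ := by group
  set c := n⁻¹ * t with hcdef
  -- the commutator with `s`
  set w := c * ι s * c⁻¹ * (ι s)⁻¹ with hw
  have hwc : ∀ y : X, ι y ∈ N → w * ι y = ι y * w := by
    intro y hy
    have h1 : Commute c (ι y) := hc y hy
    have h2 : Commute c (ι (s⁻¹ * y * s)) := hc _ (by
      rw [map_mul, map_mul, map_inv]
      have := hN.conj_mem _ hy (ι s)⁻¹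
      rwa [inv_inv] at this)
    have h3 : c⁻¹ * ((ι s)⁻¹ * ι y * ι s) = ((ι s)⁻¹ * ι y * ι s) * c⁻¹ := by
      have := h2.inv_left.eq
      rwa [map_mul, map_mul, map_inv] at this
    calc w * ι y = c * ι s * (c⁻¹ * ((ι s)⁻¹ * ι y * ι s)) * (ι s)⁻¹ := by rw [hw]; group
      _ = c * ι s * (((ι s)⁻¹ * ι y * ι s) * c⁻¹) * (ι s)⁻¹ := by rw [h3]
      _ = (c * ι y) * ι s * c⁻¹ * (ι s)⁻¹ := by group
      _ = (ι y * c) * ι s * c⁻¹ * (ι s)⁻¹ := by rw [h1.eq]
      _ = ι y * w := by rw [hw]; group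
  -- `ι u ≡ w` modulo `N`
  have hwu : (ι (D.τ s * s⁻¹))⁻¹ * w ∈ N := by
    have h1 : ι (D.τ s * s⁻¹) = n * w * (ι s * n⁻¹ * (ι s)⁻¹) := by
      rw [map_mul, map_inv, ht, hw, hcdef]
      group
    have h2 : (ι (D.τ s * s⁻¹))⁻¹ * w = (ι s * n⁻¹ * (ι s)⁻¹)⁻¹ * (w⁻¹ * n⁻¹ * w⁻¹⁻¹) := by
      rw [h1]
      group
    rw [h2]
    exact N.mul_mem (N.inv_mem (hN.conj_mem _ (N.inv_mem hn) _)) (hN.conj_mem _ (N.inv_mem hn) _)
  -- the 7'-part of the order of `w`
  set m := orderOf w / 7 ^ (orderOf w).factorization 7 with hm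
  have hpos : orderOf w ≠ 0 := (orderOf_pos w).ne'
  have hm7 : Nat.Coprime 7 m := Nat.coprime_ordCompl (by norm_num) hpos
  have hmul : 7 ^ (orderOf w).factorization 7 * m = orderOf w := Nat.ordProj_mul_ordCompl_eq_self _ _
  have hYp : IsPGroup 7 (zpowers (w ^ m)) := by
    have h1 : (w ^ m) ^ 7 ^ (orderOf w).factorization 7 = 1 := by
      rw [← pow_mul, mul_comm, hmul, pow_orderOf_eq_one]
    obtain ⟨j, -, hj⟩ := (Nat.dvd_prime_pow (by norm_num)).1 (orderOf_dvd_of_pow_eq_one h1)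
    exact IsPGroup.of_card (n := j) (by rw [Nat.card_zpowers, hj])
  have hEN : ∀ e ∈ D.E, ι e ∈ N := by
    intro e he
    have hEK : D.E ≤ N.comap ι := sup_le (zpowers_le.2 hxN) (zpowers_le.2 hzN)
    exact hEK he
  have hYE := R.le_E hYp (by
    rintro _ ⟨j, rfl⟩ e he
    have h1 : Commute w (ι e) := hwc e (hEN e he)
    exact ((h1.pow_left m).zpow_left j).eq)
  obtain ⟨e, he, hee⟩ := hYE (mem_zpowers _)
  have hwm : w ^ m ∈ N := by rw [← hee]; exact hEN e he
  -- in the quotient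
  apply hu
  show ι (D.τ s * s⁻¹) ∈ N
  set u := ι (D.τ s * s⁻¹) with hudef
  have hq : (QuotientGroup.mk u : G ⧸ N) = QuotientGroup.mk w := QuotientGroup.eq.2 hwu
  have h1 : (QuotientGroup.mk u : G ⧸ N) ^ m = 1 := by
    rw [hq, ← QuotientGroup.mk_pow]
    exact (QuotientGroup.eq_one_iff _).2 hwm
  obtain ⟨k, hk⟩ := D.isPGroup (D.τ s * s⁻¹)
  have h2 : (QuotientGroup.mk u : G ⧸ N) ^ 7 ^ k = 1 := by
    rw [← QuotientGroup.mk_pow, hudef, ← map_pow, hk, map_one]
    rfl
  have h3 : orderOf (QuotientGroup.mk u : G ⧸ N) = 1 := by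
    have h4 := orderOf_dvd_of_pow_eq_one h1
    have h5 := orderOf_dvd_of_pow_eq_one h2
    exact Nat.eq_one_of_dvd_coprimes (hm7.symm.pow_right k) h4 h5
  exact (QuotientGroup.eq_one_iff _).1 (orderOf_eq_one_iff.1 h3)

end Real

end Cfsg.Agent.H772.Pearl
end

-- part: H772/PearlRad
section
/-!
# `E` is radical and its normalizer has a small Sylow 7-subgroup (helper772)
-/

set_option autoImplicit false

namespace Cfsg.Agent.H772.Pearl

open Subgroup Cfsg Cfsg.FusionSystem Cfsg.Agent.H802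

universe u v

variable {X : Type u} [Group X] {D : Data X} {G : Type v} [Group G]

namespace Real

variable {ι : X →* G} (R : Real D ι)

include R

theorem map_exists_A {g : G} (h : g ∈ normalizer ((D.E.map ι : Subgroup G) : Set G)) :
    ∃ A : Matrix.SpecialLinearGroup (Fin 2) (ZMod 7), ∀ y : D.E, ι (D.ρ A y : D.E) = g * ι y * g⁻¹ :=
  R.exists_A fun _ hy => (mem_normalizer_iff.1 h _).1 ⟨_, hy, rfl⟩

omit R in
theorem mem_normalizer_of_ind {g : G} {A : Matrix.SpecialLinearGroup (Fin 2) (ZMod 7)}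
    (h : ∀ y : D.E, ι (D.ρ A y : D.E) = g * ι y * g⁻¹) : g ∈ normalizer ((D.E.map ι : Subgroup G) : Set G) := by
  rw [mem_normalizer_iff]
  intro w
  constructor
  · rintro ⟨y, hy, rfl⟩
    rw [← h ⟨y, hy⟩]
    exact ⟨_, (D.ρ A ⟨y, hy⟩).2, rfl⟩
  · rintro ⟨y, hy, hyw⟩
    have h1 := h ((D.ρ A)⁻¹ ⟨y, hy⟩)
    rw [MulAut.apply_inv_self] at h1
    refine ⟨_, ((D.ρ A)⁻¹ ⟨y, hy⟩).2, ?_⟩
    have h2 : ι y = g * w * g⁻¹ := hyw
    have h3 : ι ((⟨y, hy⟩ : D.E) : X) = ι y := rfl
    rw [h3, h2] at h1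
    exact (mul_left_cancel (mul_right_cancel h1)).symm

theorem eq_of_radical [Finite G] {N V : Subgroup G} [hN : N.Normal] (h7 : 7 ∣ Nat.card N) (hV : IsPGroup 7 V)
    (hEV : D.E.map ι ≤ V)
    (hnV : ∀ n ∈ N, n ∈ normalizer ((D.E.map ι : Subgroup G) : Set G) → n ∈ normalizer (V : Set G)) :
    V = D.E.map ι := by
  classical
  have hfin := D.finite
  by_contra hne
  have hlt := lt_inf_normalizer (S := V) hV hEV le_rfl (Ne.symm hne)
  set Y : Subgroup G := V ⊓ normalizer ((D.E.map ι : Subgroup G) : Set G) with hY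
  have hYp : IsPGroup 7 Y := hV.to_le inf_le_left
  -- the induced subgroup
  have hn : (ind D ι Y).Normal := by
    refine ⟨?_⟩
    rintro A ⟨y, hy, h1⟩ C
    obtain ⟨g, hgN, hg⟩ := R.exists_n h7 C
    have hgn := mem_normalizer_of_ind hg
    have hgV := hnV g hgN hgn
    refine ⟨g * y * g⁻¹, ⟨(mem_normalizer_iff.1 hgV _).1 hy.1,
      (normalizer _).mul_mem ((normalizer _).mul_mem hgn hy.2) ((normalizer _).inv_mem hgn)⟩, fun w => ?_⟩
    have h2 := hg (D.ρ C⁻¹ w)
    rw [← MulAut.mul_apply, ← map_mul, mul_inv_cancel, map_one, MulAut.one_apply] at h2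
    rw [map_mul, map_mul, MulAut.mul_apply, MulAut.mul_apply, hg, h1, h2]
    group
  have hp : IsPGroup 7 (ind D ι Y) := by
    rintro ⟨A, y, hy, h1⟩
    obtain ⟨k, hk⟩ := hYp ⟨y, hy⟩
    have hk' : y ^ 7 ^ k = 1 := congrArg Subtype.val hk
    refine ⟨k, Subtype.ext ?_⟩
    show A ^ 7 ^ k = 1
    have h2 : ∀ (n : ℕ) (w : D.E), ι (D.ρ (A ^ n) w : D.E) = y ^ n * ι w * (y ^ n)⁻¹ := by
      intro n
      induction n with
      | zero => intro w; simp only [_root_.pow_zero, _root_.map_one, _root_.MulAut.one_apply, _root_.one_mul, _root_.inv_one, _root_.mul_one]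
      | succ n ih =>
        intro w
        rw [pow_succ, map_mul, MulAut.mul_apply, ih, h1, pow_succ]
        group
    apply D.ρ_injective
    rw [map_one]
    apply MulEquiv.ext
    intro w
    apply Subtype.ext
    apply R.inj
    rw [h2, hk', one_mul, inv_one, mul_one]
    rfl
  -- so it is trivial
  have hbot : ind D ι Y = ⊥ := by
    by_contra hne
    have hdvd : 7 ∣ Nat.card (ind D ι Y) := by
      obtain ⟨j, hj⟩ := (IsPGroup.iff_card.1 hp)
      have h2 : j ≠ 0 := by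
        rintro rfl
        rw [pow_zero] at hj
        exact hne (Subgroup.card_eq_one.1 hj)
      rw [hj]
      exact dvd_pow_self 7 h2
    have htop : ind D ι Y = ⊤ := by
      apply PLocal.FFFamily.eq_top_of_normal_of_coprime_index
      intro h
      have h1 := Subgroup.card_mul_index (ind D ι Y)
      rw [ClassicalGeometry.PSL2Basic.card_SL2, ZMod.card] at h1
      have h2 := mul_dvd_mul hdvd h
      rw [h1] at h2
      norm_num at h2
    have h3 := hp
    rw [htop] at h3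
    obtain ⟨j, hj⟩ := (IsPGroup.iff_card.1 h3)
    rw [card_top, ClassicalGeometry.PSL2Basic.card_SL2, ZMod.card] at hj
    have h4 : 2 ∣ 7 ^ j := by rw [← hj]; norm_num
    have h5 := Nat.Prime.dvd_of_dvd_pow Nat.prime_two h4
    norm_num at h5
  -- `Y` centralizes `E`
  have hYE : Y ≤ D.E.map ι := by
    refine R.le_E hYp fun y hy e he => ?_
    obtain ⟨A, hA⟩ := R.map_exists_A hy.2
    have h1 : A ∈ ind D ι Y := ⟨y, hy, hA⟩
    rw [hbot, mem_bot] at h1
    have h2 := hA ⟨e, he⟩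
    rw [h1, map_one, MulAut.one_apply] at h2
    have h3 : ι e = y * ι e * y⁻¹ := h2
    calc y * ι e = y * ι e * y⁻¹ * y := by group
      _ = ι e * y := by rw [← h3]
  exact absurd (lt_of_lt_of_le hlt hYE) (lt_irrefl _)

theorem card_le_of_normalizes [Finite G] {S : Subgroup G} (hS : IsPGroup 7 S)
    (hn : S ≤ normalizer ((D.E.map ι : Subgroup G) : Set G)) : Nat.card S ≤ 336 * 49 := by
  classical
  have hfin := D.finite
  choose f hf using fun s : S => R.map_exists_A (hn s.2)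
  -- elements with the same image differ by an element of `E`
  have key : ∀ s t : S, f s = f t → (t : G)⁻¹ * s ∈ D.E.map ι := by
    intro s t hst
    have hYp : IsPGroup 7 (zpowers ((t : G)⁻¹ * s)) := hS.to_le (zpowers_le.2 (S.mul_mem (S.inv_mem t.2) s.2))
    refine R.le_E hYp ?_ (mem_zpowers _)
    rintro _ ⟨j, rfl⟩ e he
    have h1 := hf s ⟨e, he⟩
    have h2 := hf t ⟨e, he⟩
    rw [hst, h2] at h1
    have h3 : Commute ((t : G)⁻¹ * s) (ι e) := by
      show (t : G)⁻¹ * s * ι e = ι e * ((t : G)⁻¹ * s)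
      have h4 : (t : G) * ι e * (t : G)⁻¹ = s * ι e * (s : G)⁻¹ := h1
      calc (t : G)⁻¹ * s * ι e = (t : G)⁻¹ * (s * ι e * (s : G)⁻¹) * s := by group
        _ = (t : G)⁻¹ * ((t : G) * ι e * (t : G)⁻¹) * s := by rw [← h4]
        _ = _ := by group
    exact (h3.zpow_left j).eq
  let r : Matrix.SpecialLinearGroup (Fin 2) (ZMod 7) → S := fun A => if h : ∃ s : S, f s = A then h.choose else 1
  have hr : ∀ s : S, f (r (f s)) = f s := by
    intro s
    have h : ∃ s' : S, f s' = f s := ⟨s, rfl⟩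
    simp only [r, dif_pos h]
    exact h.choose_spec
  have hfinE : Finite (D.E.map ι) := inferInstance
  let F : S → Matrix.SpecialLinearGroup (Fin 2) (ZMod 7) × (D.E.map ι) :=
    fun s => (f s, ⟨((r (f s) : S) : G)⁻¹ * s, key s _ (hr s).symm⟩)
  have hF : Function.Injective F := by
    intro s t hst
    have h1 : f s = f t := congrArg Prod.fst hst
    have h2 : ((r (f s) : S) : G)⁻¹ * s = ((r (f t) : S) : G)⁻¹ * t := congrArg Subtype.val (congrArg Prod.snd hst)
    rw [h1] at h2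
    exact Subtype.ext (mul_left_cancel h2)
  have h1 := Nat.card_le_card_of_injective F hF
  rw [Nat.card_prod, ClassicalGeometry.PSL2Basic.card_SL2, ZMod.card] at h1
  have h2 : Nat.card (D.E.map ι) = 49 := by
    rw [← D.card_E]
    exact (Nat.card_congr (D.E.equivMapOfInjective ι R.inj).toEquiv).symm
  rw [h2] at h1
  norm_num only [_root_.ge_iff_le] at h1 ⊢
  exact h1

/-- no group between: `N` normal of order divisible by 7, `E ≤ V ≤ N` a 7-group normalized by `N_N(E)`; no Sylow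
subgroup of `N` normalizes `V` -/
theorem rad_false [Finite G] {N V S : Subgroup G} [hN : N.Normal] (h7 : 7 ∣ Nat.card N) (hV : IsPGroup 7 V)
    (hEV : D.E.map ι ≤ V)
    (hnV : ∀ n ∈ N, n ∈ normalizer ((D.E.map ι : Subgroup G) : Set G) → n ∈ normalizer (V : Set G))
    (hS : IsPGroup 7 S) (hSc : 7 ^ 6 ≤ Nat.card S) (hSn : S ≤ normalizer (V : Set G)) : False := by
  have h1 := R.eq_of_radical h7 hV hEV hnV
  rw [h1] at hSn
  have h2 := R.card_le_of_normalizes hS hSn
  have h3 := hSc.trans h2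
  norm_num at h3

end Real

end Cfsg.Agent.H772.Pearl
end

-- part: H772/PearlChar
section
/-!
# The simple group is not of Lie type in characteristic 7 (helper772)
-/

set_option autoImplicit false
set_option linter.unusedSectionVars false

namespace Cfsg.Agent.H772.Pearl

open Subgroup Cfsg

section Par

open CoxeterSystem Cfsg.Agent.ChevalleyStructure.CoxeterGeom Cfsg.Agent.Tits.Roots
  Cfsg.Agent.Nodes.Reps Cfsg.Agent.Nodes.BNOf
  Cfsg.Agent.Nodes.Bruhat Cfsg.Agent.Nodes.OppDec Cfsg.Agent.Nodes.LeviDec Cfsg.Agent.Nodes.NormX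
  Cfsg.Agent.KFacts.RgdPar Cfsg.Agent.KFacts.RgdCent
  Cfsg.Agent.KFacts.RgdEx Cfsg.Agent.KFacts.RgdVJ Cfsg.Agent.KFacts.RgdCharP
  Cfsg.Agent.KFacts.RgdBorelTits Cfsg.Agent.KFacts.RgdFilt

variable {G : Type*} [Group G] [Finite G] [IsSimpleGroup G] {p : ℕ} [Fact p.Prime]

/-- **Borel–Tits**: the normalizer of a `p`-subgroup lies in that of a larger `p`-subgroup, normalized by a Sylow
subgroup. -/
theorem exists_par_sylow (hG : HasFilt p G) (hc : ∃ a b : G, a * b ≠ b * a)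
    {K : Subgroup G} (hK : IsPGroup p K) (hK1 : K ≠ ⊥) : ∃ V : Subgroup G, IsPGroup p V ∧ K ≤ V ∧
      normalizer (K : Set G) ≤ normalizer (V : Set G) ∧ ∃ S : Sylow p G, (S : Subgroup G) ≤ normalizer (V : Set G) := by
  obtain ⟨l, M, A, h, T, n, X, R, hW, hBT, hGG, hN, hconn, hX, hl⟩ := hG.data hc
  obtain ⟨g, J, hJ, h1, h2⟩ := hBT K hK hK1
  refine ⟨cj g (VJ M.toCoxeterSystem h X J), ?_, h1, ?_, ?_⟩
  · unfold cj
    exact (isPGroup_VJ R J).map _
  · rw [normalizer_cj]
    exact h2.trans (Subgroup.map_mono (PJ_le_normalizer_VJ R J))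
  · obtain ⟨S, hS⟩ := Cfsg.Agent.KFacts.RgdAutFacts.exists_sylow R hGG
    refine ⟨g • S, ?_⟩
    rw [normalizer_cj]
    have h3 : ((g • S : Sylow p G) : Subgroup G) = cj g (S : Subgroup G) := rfl
    rw [h3]
    refine Subgroup.map_mono ?_
    rw [hS]
    refine le_trans ?_ (PJ_le_normalizer_VJ R J)
    exact le_trans le_sup_right B_le_PJ

end Par

open Cfsg.Agent.KFacts.RgdFilt

universe u v

variable {X : Type u} [Group X] {D : Data X} {G : Type v} [Group G]

namespace Real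

variable {ι : X →* G} (R : Real D ι)

include R

theorem not_hasFilt [Finite G] {N : Subgroup G} [hN : N.Normal] (h7 : 7 ∣ Nat.card N) [IsSimpleGroup N]
    (hc : ∃ a b : N, a * b ≠ b * a) : ¬ HasFilt 7 N := by
  intro hF
  have hfin := D.finite
  have htop := R.comap_eq_top h7
  have hιN : ∀ y, ι y ∈ N := fun y => by
    have : y ∈ N.comap ι := by rw [htop]; exact mem_top y
    exact this
  let K : Subgroup N := (D.E.map ι).subgroupOf N
  have hEN : D.E.map ι ≤ N := by
    rintro _ ⟨y, -, rfl⟩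
    exact hιN y
  have hK : IsPGroup 7 K :=
    ((D.isPGroup.to_subgroup D.E).map ι).comap_of_injective N.subtype N.subtype_injective
  have hK1 : K ≠ ⊥ := by
    intro h
    have h1 : (⟨ι D.z, hιN _⟩ : N) ∈ K := ⟨D.z, D.z_mem, rfl⟩
    rw [h, mem_bot] at h1
    exact D.z1 (R.inj (by rw [map_one]; exact congrArg Subtype.val h1))
  obtain ⟨V, hVp, hKV, hnV, S, hS⟩ := exists_par_sylow hF hc hK hK1
  have hmapn : ∀ (V : Subgroup N) (n : N), n ∈ normalizer (V : Set N) →
      (n : G) ∈ normalizer ((V.map N.subtype : Subgroup G) : Set G) := by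
    intro V n hn
    rw [mem_normalizer_iff]
    intro w
    constructor
    · rintro ⟨v, hv, rfl⟩
      exact ⟨n * v * n⁻¹, (mem_normalizer_iff.1 hn v).1 hv, rfl⟩
    · rintro ⟨v, hv, hvw⟩
      have h1 : (v : G) = n * w * (n : G)⁻¹ := hvw
      have h2 := (mem_normalizer_iff.1 ((normalizer (V : Set N)).inv_mem hn) v).1 hv
      refine ⟨_, h2, ?_⟩
      show ((n⁻¹ * v * n⁻¹⁻¹ : N) : G) = w
      push_cast
      rw [h1]
      group
  refine R.rad_false (N := N) (V := V.map N.subtype) (S := (S : Subgroup N).map N.subtype) h7 (hVp.map _) ?_ ?_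
    (S.isPGroup'.map _) ?_ ?_
  · intro w hw
    exact ⟨⟨w, hEN hw⟩, hKV hw, rfl⟩
  · intro n hn hnE
    refine hmapn V ⟨n, hn⟩ (hnV ?_)
    rw [mem_normalizer_iff]
    intro w
    exact mem_normalizer_iff.1 hnE w
  · rw [← Nat.card_congr ((S : Subgroup N).equivMapOfInjective N.subtype N.subtype_injective).toEquiv]
    have hr : IsPGroup 7 (ι.range.subgroupOf N) :=
      (isPGroup_range D ι).comap_of_injective N.subtype N.subtype_injective
    obtain ⟨Q, hQ⟩ := hr.exists_le_sylow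
    have h1 : Nat.card (ι.range.subgroupOf N) = 7 ^ 6 := by
      have h2 : ι.range ≤ N := by
        rintro _ ⟨y, rfl⟩
        exact hιN y
      rw [Nat.card_congr (Subgroup.subgroupOfEquivOfLe h2).toEquiv, R.card_range]
    rw [Nat.card_congr (S.equiv Q).toEquiv, ← h1]
    exact Nat.card_mono (Set.toFinite _) hQ
  · rintro _ ⟨s, hs, rfl⟩
    exact hmapn V s (hS hs)

/-- not of Lie type in characteristic 7 -/
theorem not_lieTypeChar [Finite G] {N : Subgroup G} [hN : N.Normal] (h7 : 7 ∣ Nat.card N) [IsSimpleGroup N]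
    (hc : ∃ a b : N, a * b ≠ b * a) : ¬ IsLieTypeChar 7 N := by
  intro h
  apply R.not_hasFilt h7 hc
  apply KFacts.RgdLieCharP.hasFilt_of_lie
  rcases h with h | h | h | h | h | h | h | h | h | h | h
  · exact Or.inl h
  · exact Or.inr (Or.inl h)
  · exact Or.inr (Or.inr (Or.inl h))
  · exact Or.inr (Or.inr (Or.inr (Or.inl h)))
  · exact Or.inr (Or.inr (Or.inr (Or.inr (Or.inl h))))
  · exact Or.inr (Or.inr (Or.inr (Or.inr (Or.inr (Or.inl h)))))
  · exact Or.inr (Or.inr (Or.inr (Or.inr (Or.inr (Or.inr (Or.inl h))))))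
  · exact Or.inr (Or.inr (Or.inr (Or.inr (Or.inr (Or.inr (Or.inr h))))))
  · exact absurd h.1 (by norm_num)
  · exact absurd h.1 (by norm_num)
  · exact absurd h.1 (by norm_num)

end Real

end Cfsg.Agent.H772.Pearl
end
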