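import Cfsg.Agent.S3224
import Cfsg.Agent.S4399
import Cfsg.Agent.Lib.FrattiniPGroup
import Cfsg.Agent.Lib.NormalAbelian
set_option linter.all false

/-!
# Self-centralizing four-subgroups and quaternion subgroups of 2-groups (helper772)
-/

set_option autoImplicit false

namespace Cfsg.Agent.H772

open Subgroup

/-- In a finite `p`-group, a subgroup `V` of `C` containing every element of `C` normalizing `V` is `C`. -/
theorem eq_of_normalizer_inf_le {S : Type*} [Group S] [Finite S] {p : ℕ} [Fact p.Prime]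
    (hS : IsPGroup p S) {V C : Subgroup S} (hVC : V ≤ C)
    (h : ∀ g ∈ C, g ∈ normalizer (V : Set S) → g ∈ V) : C = V := by
  have hnil : Group.IsNilpotent C := (hS.to_subgroup C).isNilpotent
  have hNC : NormalizerCondition C := Group.normalizerCondition_of_isNilpotent
  by_contra hne
  have hproper : V.subgroupOf C < ⊤ := by
    rw [lt_top_iff_ne_top]
    intro h1
    exact hne (le_antisymm (Subgroup.subgroupOf_eq_top.1 h1) hVC)
  obtain ⟨x, hx1, hx2⟩ := SetLike.exists_of_lt (hNC _ hproper)
  refine hx2 (Subgroup.mem_subgroupOf.2 (h x x.2 (Subgroup.mem_normalizer_iff.2 fun z => ?_)))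
  constructor
  · intro hz
    have := (Subgroup.mem_normalizer_iff.1 hx1 ⟨z, hVC hz⟩).1 (Subgroup.mem_subgroupOf.2 hz)
    exact Subgroup.mem_subgroupOf.1 this
  · intro hz
    have hzC : z ∈ C := by
      have h1 : (x : S)⁻¹ * ((x : S) * z * (x : S)⁻¹) * (x : S) ∈ C :=
        C.mul_mem (C.mul_mem (C.inv_mem x.2) (hVC hz)) x.2
      have h2 : (x : S)⁻¹ * ((x : S) * z * (x : S)⁻¹) * (x : S) = z := by group
      rwa [h2] at h1
    have := (Subgroup.mem_normalizer_iff.1 hx1 ⟨z, hzC⟩).2 (Subgroup.mem_subgroupOf.2 hz)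
    exact Subgroup.mem_subgroupOf.1 this

/-- In a finite 2-group, a self-centralizing subgroup of order 4 contains an element whose centralizer
is that subgroup. -/
theorem exists_centralizer_eq_of_card_four {S : Type*} [Group S] [Finite S] (hS : IsPGroup 2 S)
    (V : Subgroup S) (hV : Nat.card V = 4) (hC : centralizer (V : Set S) ≤ V) :
    ∃ x ∈ V, centralizer ({x} : Set S) = V := by
  classical
  have hVab : ∀ a ∈ V, ∀ b ∈ V, a * b = b * a := by
    have h : Nat.card V = 2 ^ 2 := by rw [hV]; norm_num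
    have := IsPGroup.isMulCommutative_of_card_eq_prime_sq (p := 2) h
    intro a ha b hb
    exact congrArg Subtype.val (mul_comm' (⟨a, ha⟩ : V) ⟨b, hb⟩)
  -- the normalizer acts on `V`; fixed points
  set N := normalizer (V : Set S) with hN
  have hNp : IsPGroup 2 N := hS.to_subgroup N
  have hnil : Group.IsNilpotent N := hNp.isNilpotent
  -- there is a nontrivial element of `V` central in `N`
  obtain ⟨z, hzV, hz1, hzN⟩ : ∃ z ∈ V, z ≠ 1 ∧ ∀ g ∈ N, g * z = z * g := by
    have hVN : V ≤ N := le_normalizer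
    have hVn : (V.subgroupOf N).Normal := normal_in_normalizer
    have hnt : V.subgroupOf N ≠ ⊥ := by
      intro h0
      have h : Nat.card (V.subgroupOf N) = 4 := by
        rw [Nat.card_congr (subgroupOfEquivOfLe hVN).toEquiv, hV]
      rw [h0, Subgroup.card_bot] at h
      norm_num at h
    have h1 := Cfsg.Agent.Lib.NormalAbelian.normal_inf_center_ne_bot (V.subgroupOf N) hnt
    obtain ⟨⟨w, hw⟩, hw1⟩ := Subgroup.ne_bot_iff_exists_ne_one.1 h1
    refine ⟨w, mem_subgroupOf.1 hw.1, ?_, fun g hg => ?_⟩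
    · intro h2
      apply hw1
      apply Subtype.ext
      exact Subtype.ext h2
    · exact congrArg Subtype.val (mem_center_iff.1 hw.2 ⟨g, hg⟩)
  -- a second generator
  obtain ⟨x, hxV, hxz⟩ : ∃ x ∈ V, V ≤ zpowers z ⊔ zpowers x := by
    by_cases h1 : V ≤ zpowers z
    · exact ⟨z, hzV, h1.trans le_sup_left⟩
    · obtain ⟨x, hx, hxz⟩ := SetLike.not_le_iff_exists.1 h1
      refine ⟨x, hx, ?_⟩
      have hle : zpowers z ⊔ zpowers x ≤ V := sup_le (zpowers_le.2 hzV) (zpowers_le.2 hx)
      have h2 : Nat.card (zpowers z) ≠ 1 := by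
        intro h3
        exact hz1 (zpowers_eq_bot.1 (Subgroup.card_eq_one.1 h3))
      have h3 : Nat.card (zpowers z) < Nat.card (zpowers z ⊔ zpowers x : Subgroup S) := by
        have h0 : zpowers z ≤ zpowers z ⊔ zpowers x := le_sup_left
        refine lt_of_le_of_ne (Nat.card_mono (Set.toFinite _) h0) fun heq => hxz ?_
        rw [Subgroup.eq_of_le_of_card_ge (le_sup_left : zpowers z ≤ zpowers z ⊔ zpowers x) heq.ge]
        exact (le_sup_right : zpowers x ≤ _) (mem_zpowers x)
      have h4 : Nat.card (zpowers z ⊔ zpowers x : Subgroup S) ∣ 4 := by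
        rw [← hV]; exact Subgroup.card_dvd_of_le hle
      have h5 : Nat.card (zpowers z) ≠ 0 := Nat.card_pos.ne'
      have h6 : Nat.card (zpowers z ⊔ zpowers x : Subgroup S) = 4 := by
        have := Nat.le_of_dvd (by norm_num) h4
        interval_cases h7 : Nat.card (zpowers z ⊔ zpowers x : Subgroup S) <;> omega
      exact (Subgroup.eq_of_le_of_card_ge hle (by rw [h6, hV])).ge
  refine ⟨x, hxV, ?_⟩
  have hVC : V ≤ centralizer ({x} : Set S) := by
    intro v hv
    rw [mem_centralizer_singleton_iff]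
    exact hVab v hv x hxV
  refine eq_of_normalizer_inf_le hS hVC fun g hg hgN => hC ?_
  rw [mem_centralizer_singleton_iff] at hg
  have h1 : zpowers z ⊔ zpowers x ≤ centralizer ({g} : Set S) := by
    refine sup_le (zpowers_le.2 ?_) (zpowers_le.2 ?_)
    · rw [mem_centralizer_singleton_iff]; exact (hzN g hgN).symm
    · rw [mem_centralizer_singleton_iff]; exact hg.symm
  rw [mem_centralizer_iff]
  intro v hv
  exact mem_centralizer_singleton_iff.1 (h1 (hxz hv))

/-- A finite 2-group with a self-centralizing four-subgroup is dihedral or quasi-dihedral (or has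
order 4). -/
theorem cases_of_four {S : Type*} [Group S] [Finite S] (hS : IsPGroup 2 S)
    (V : Subgroup S) (hV : Nat.card V = 4) (hV2 : ∀ v ∈ V, v ^ 2 = 1)
    (hC : centralizer (V : Set S) ≤ V) :
    (∃ n : ℕ, Nonempty (S ≃* DihedralGroup n)) ∨ Cfsg.IsQuasiDihedral S ∨ Nat.card S = 4 := by
  obtain ⟨x, hx, hxV⟩ := exists_centralizer_eq_of_card_four hS V hV hC
  by_cases hx1 : x = 1
  · subst hx1
    right; right
    have : (⊤ : Subgroup S) = V := by
      rw [← hxV, eq_comm, eq_top_iff]
      intro g _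
      rw [mem_centralizer_singleton_iff]
      simp
    rw [← Subgroup.card_top, this, hV]
  · refine S3224.result hS x (orderOf_eq_prime (hV2 x hx) hx1) ?_
    rw [hxV, hV]

/-- If some element has at most four elements in its centralizer modulo a normal subgroup inside `S'`,
then `|S : S'| ≤ 4`. -/
theorem index_commutator_le {S : Type*} [Group S] [Finite S] (Z : Subgroup S) [Z.Normal]
    (hZ : Z ≤ commutator S) (x : S ⧸ Z) (m : ℕ)
    (hx : Nat.card (centralizer ({x} : Set (S ⧸ Z))) ≤ m) : (commutator S).index ≤ m := by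
  classical
  have h1 : (commutator S).map (QuotientGroup.mk' Z) = commutator (S ⧸ Z) := by
    rw [commutator_def, commutator_def, Subgroup.map_commutator,
      ← MonoidHom.range_eq_map, MonoidHom.range_eq_top.2 (QuotientGroup.mk'_surjective Z)]
  have h2 : (commutator S).index = (commutator (S ⧸ Z)).index := by
    rw [← h1, Subgroup.index_map]
    rw [QuotientGroup.ker_mk', sup_eq_left.2 hZ, MonoidHom.range_eq_top.2
      (QuotientGroup.mk'_surjective Z), Subgroup.index_top, mul_one]
  rw [h2]
  refine le_trans ?_ hx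
  -- the class of `x` embeds in a coset of the commutator subgroup
  have h3 : (centralizer ({x} : Set (S ⧸ Z))).index ≤ Nat.card (commutator (S ⧸ Z)) := by
    have h4 : (centralizer ({x} : Set (S ⧸ Z))).index =
        Nat.card ((S ⧸ Z) ⧸ centralizer ({x} : Set (S ⧸ Z))) := rfl
    rw [h4]
    let f : ((S ⧸ Z) ⧸ centralizer ({x} : Set (S ⧸ Z))) → commutator (S ⧸ Z) := fun q =>
      ⟨q.out * x * q.out⁻¹ * x⁻¹, Subgroup.commutator_mem_commutator (mem_top _) (mem_top _)⟩
    refine Nat.card_le_card_of_injective f ?_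
    intro q r hqr
    have h5 : q.out * x * q.out⁻¹ * x⁻¹ = r.out * x * r.out⁻¹ * x⁻¹ := congrArg Subtype.val hqr
    have h6 : q.out * x * q.out⁻¹ = r.out * x * r.out⁻¹ := mul_right_cancel h5
    rw [← QuotientGroup.out_eq' q, ← QuotientGroup.out_eq' r, QuotientGroup.eq,
      mem_centralizer_singleton_iff]
    calc q.out⁻¹ * r.out * x = q.out⁻¹ * (r.out * x * r.out⁻¹) * r.out := by group
      _ = q.out⁻¹ * (q.out * x * q.out⁻¹) * r.out := by rw [h6]
      _ = x * (q.out⁻¹ * r.out) := by group
  have h7 := Subgroup.card_mul_index (centralizer ({x} : Set (S ⧸ Z)))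
  have h8 := Subgroup.card_mul_index (commutator (S ⧸ Z))
  have h9 : 0 < Nat.card (commutator (S ⧸ Z)) := Nat.card_pos
  by_contra hlt
  push Not at hlt
  have h10 : Nat.card (centralizer ({x} : Set (S ⧸ Z))) *
      (centralizer ({x} : Set (S ⧸ Z))).index < Nat.card (commutator (S ⧸ Z)) *
      (commutator (S ⧸ Z)).index := by
    calc _ ≤ Nat.card (centralizer ({x} : Set (S ⧸ Z))) * Nat.card (commutator (S ⧸ Z)) :=
          Nat.mul_le_mul_left _ h3
      _ < (commutator (S ⧸ Z)).index * Nat.card (commutator (S ⧸ Z)) :=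
          Nat.mul_lt_mul_of_pos_right hlt h9
      _ = _ := mul_comm _ _
  omega

/-- A non-abelian finite 2-group with `|S : S'| ≤ 4` is dihedral, quasi-dihedral or quaternion. -/
theorem cases_of_index_le {S : Type*} [Group S] [Finite S] (hS : IsPGroup 2 S)
    (hna : ¬ ∀ a b : S, a * b = b * a) (h4 : (commutator S).index ≤ 4) :
    (∃ n : ℕ, Nonempty (S ≃* DihedralGroup n)) ∨ Cfsg.IsQuasiDihedral S ∨
      (∃ n : ℕ, Nonempty (S ≃* QuaternionGroup n)) := by
  classical
  -- `S / S'` is not cyclic
  have hncyc : ∀ a : S, ¬ zpowers a ⊔ commutator S = ⊤ := by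
    intro a ha
    have h1 : zpowers a ⊔ frattini S = ⊤ := by
      rw [eq_top_iff, ← ha]
      exact sup_le_sup_left (Cfsg.Agent.Lib.FrattiniPGroup.commutator_le_frattini hS) _
    have h2 := frattini_nongenerating h1
    apply hna
    intro b c
    have hb : b ∈ zpowers a := h2 ▸ mem_top b
    have hc : c ∈ zpowers a := h2 ▸ mem_top c
    obtain ⟨i, rfl⟩ := hb
    obtain ⟨j, rfl⟩ := hc
    rw [← zpow_add, ← zpow_add, add_comm]
  have hncyc' : ¬ IsCyclic (Abelianization S) := by
    rintro ⟨g, hg⟩
    obtain ⟨a, rfl⟩ := QuotientGroup.mk_surjective g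
    apply hncyc a
    rw [eq_top_iff]
    intro b _
    obtain ⟨i, hi⟩ := hg (QuotientGroup.mk b)
    have h1 : (QuotientGroup.mk (a ^ i) : S ⧸ commutator S) = QuotientGroup.mk b := hi
    rw [QuotientGroup.eq] at h1
    have h2 : b = a ^ i * ((a ^ i)⁻¹ * b) := by group
    rw [h2]
    exact mul_mem ((le_sup_left : zpowers a ≤ _) (zpow_mem (mem_zpowers a) i))
      ((le_sup_right : commutator S ≤ _) h1)
  have hAp : IsPGroup 2 (Abelianization S) := hS.to_quotient (commutator S)
  have hcardA : Nat.card (Abelianization S) = (commutator S).index := rfl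
  obtain ⟨n, hn⟩ := IsPGroup.iff_card.1 hAp
  have hn2 : n = 2 := by
    rw [← hcardA, hn] at h4
    have h5 : n ≤ 2 := by
      by_contra h6
      have h7 : 2 ^ 3 ≤ 2 ^ n := Nat.pow_le_pow_right (by norm_num) (by omega)
      omega
    interval_cases n
    · exfalso
      apply hncyc'
      have : Subsingleton (Abelianization S) :=
        (Nat.card_eq_one_iff_unique.1 (by simpa using hn)).1
      infer_instance
    · exfalso
      apply hncyc'
      exact isCyclic_of_prime_card (p := 2) (by simpa using hn)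
    · rfl
  subst hn2
  have hcard : Nat.card (Abelianization S) = 4 := by rw [hn]; norm_num
  have hexp : ∀ x : Abelianization S, x ^ 2 = 1 := by
    intro x
    by_contra hx
    apply hncyc'
    apply isCyclic_of_orderOf_eq_card x
    have h1 : orderOf x ∣ 2 ^ 2 := by rw [← hn]; exact orderOf_dvd_natCard x
    have h2 : ¬ orderOf x ∣ 2 ^ 1 := by
      intro h3
      exact hx (by simpa using orderOf_dvd_iff_pow_eq_one.1 h3)
    rw [Nat.eq_prime_pow_of_dvd_least_prime_pow Nat.prime_two h2 h1, hn]
  rcases S4399.result hS hcard hexp with h | ⟨k, hk⟩ | ⟨k, hk, a, b, ha, hb, hab⟩ | ⟨k, hk⟩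
  · exfalso
    apply hna
    have h3 : Nat.card S = 2 ^ 2 := by rw [h]; norm_num
    have := IsPGroup.isMulCommutative_of_card_eq_prime_sq (p := 2) h3
    intro a b
    exact mul_comm' a b
  · exact Or.inl ⟨_, hk⟩
  · exact Or.inr (Or.inl ⟨k + 3, by omega, hk, a, b, ha, hb, hab⟩)
  · exact Or.inr (Or.inr ⟨_, hk⟩)

end Cfsg.Agent.H772
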