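import Cfsg.Agent.H772.GTwoAut
import Cfsg.Agent.H772.PearlChar
import Cfsg.Agent.H638.G2Iso
import Cfsg.Agent.Prune
set_option linter.all false
prune_inst 0x7f00000000000000000000000000000000000000000000000000000000000000000000000000000000000000000000000000000000000000000000000000000000000000000000000000000000000000003fffffffffffffffffffffffffffbeffbdffffffff
open scoped Cfsg.Agent.FastGrp

/-!
# The data for a Sylow 7-subgroup of `G₂(7)` (helper772)
-/

set_option autoImplicit false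

namespace Cfsg.Agent.H772.GTwo

open Cfsg Cfsg.Lie Cfsg.Agent.ChevalleyStructure.G2Sym Cfsg.Agent.H772.Pearl

theorem el_pow_seven {k₀ k₁ k₂ k₃ k₄ k₅ : ℤ}
    (h : chk 7 (nw k₀ k₁ k₂ k₃ k₄ k₅ ++ (nw k₀ k₁ k₂ k₃ k₄ k₅ ++ (nw k₀ k₁ k₂ k₃ k₄ k₅ ++ (nw k₀ k₁ k₂ k₃ k₄ k₅ ++
      (nw k₀ k₁ k₂ k₃ k₄ k₅ ++ (nw k₀ k₁ k₂ k₃ k₄ k₅ ++ nw k₀ k₁ k₂ k₃ k₄ k₅)))))) [] = true) :
    (el k₀ k₁ k₂ k₃ k₄ k₅ : ↥U) ^ 7 = 1 := by
  have h1 := word_eq seven (fun _ => (0 : K)) _ _ h
  simp only [List.map_append, wordMat_append, ← coe_el_nw] at h1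
  apply ext_mat
  rw [pow_succ', pow_succ', pow_succ', pow_succ', pow_succ', pow_succ', pow_one]
  simp only [coe_mul_el]
  rw [h1]
  rfl

/-- the data of the unipotent group -/
noncomputable def dataU : Data ↥U where
  x := x
  z := z
  τ := τ
  card := card_U
  x7 := x_seven
  z7 := z_seven
  z1 := z_ne_one
  zc := z_comm
  xz := x_not_mem
  cent := card_cent_x
  τx := τ_x
  τz := τ_z
  τ6 := τ_six
  π := π
  πs := π_surjective
  πτ := π_τ
  a₁ := a₁
  b₁ := b₁
  a₂ := a₂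
  b₂ := b₂
  a₁7 := el_pow_seven (by decide +kernel)
  b₁7 := el_pow_seven (by decide +kernel)
  a₂7 := el_pow_seven (by decide +kernel)
  b₂7 := el_pow_seven (by decide +kernel)
  c₁ := comm_one
  c₂ := comm_two
  caa := comm_aa
  cab := comm_ab
  cba := comm_ba
  cbb := comm_bb

theorem U_le : U ≤ chevG2.group K := by
  refine Subgroup.closure_mono ?_
  rintro g ⟨r, t, hr, hg⟩
  refine ⟨⟨r, hr.1⟩, t, ?_⟩
  rw [hg]
  exact dif_pos hr.1

theorem card_group : Nat.card (chevG2.group K) = 7 ^ 6 * 5647104 := by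
  obtain ⟨e⟩ := H638.G2Iso.equiv (F := K)
  rw [← Nat.card_congr e.toEquiv, H638.G2Iso.card_G2, Nat.card_zmod]
  norm_num

/-- **The data for a group isomorphic to a Sylow 7-subgroup of `G₂(7)`.** -/
theorem exists_data {P : Type*} [Group P] (T : Sylow 7 ↥(Cfsg.Lie.G2 (ZMod 7)))
    (e : P ≃* ↥(T : Subgroup ↥(Cfsg.Lie.G2 (ZMod 7)))) : Nonempty (Data P) := by
  obtain ⟨φ⟩ := H638.G2Iso.equiv (F := K)
  have hfin : Finite (chevG2.group K) := Nat.finite_of_card_ne_zero (by rw [card_group]; norm_num)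
  have hfin2 : Finite ↥(Cfsg.Lie.G2 (ZMod 7)) := Finite.of_equiv _ φ.symm.toEquiv
  have hfin3 : Finite ↥(T : Subgroup ↥(Cfsg.Lie.G2 (ZMod 7))) := inferInstance
  -- the Sylow subgroup of the Chevalley group
  have hcU : Nat.card (U.subgroupOf (chevG2.group K)) = 7 ^ 6 := by
    rw [Nat.card_congr (Subgroup.subgroupOfEquivOfLe U_le).toEquiv, card_U]
  have hfac : (Nat.card (chevG2.group K)).factorization 7 = 6 := by
    rw [card_group, Nat.factorization_mul (by norm_num) (by norm_num), Finsupp.add_apply,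
      Nat.Prime.factorization_pow (by norm_num), Finsupp.single_eq_same,
      Nat.factorization_eq_zero_of_not_dvd (by norm_num)]
  let S : Sylow 7 (chevG2.group K) := Sylow.ofCard (U.subgroupOf (chevG2.group K)) (by rw [hcU, hfac])
  let T' : Sylow 7 (chevG2.group K) := Sylow.ofCard ((T : Subgroup ↥(Cfsg.Lie.G2 (ZMod 7))).map φ.toMonoidHom) (by
    rw [Nat.card_congr ((T : Subgroup ↥(Cfsg.Lie.G2 (ZMod 7))).equivMapOfInjective _ φ.injective).symm.toEquiv,
      T.card_eq_multiplicity, Nat.card_congr φ.toEquiv])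
  have e1 : P ≃* ↥(T' : Subgroup (chevG2.group K)) :=
    e.trans ((T : Subgroup ↥(Cfsg.Lie.G2 (ZMod 7))).equivMapOfInjective φ.toMonoidHom φ.injective)
  have e2 : ↥(T' : Subgroup (chevG2.group K)) ≃* ↥(S : Subgroup (chevG2.group K)) := T'.equiv S
  have e3 : ↥(S : Subgroup (chevG2.group K)) ≃* ↥U := Subgroup.subgroupOfEquivOfLe U_le
  exact ⟨dataU.transport ((e1.trans e2).trans e3).symm⟩

end Cfsg.Agent.H772.GTwo
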