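import Cfsg.Agent.S1026
import Cfsg.Agent.S1023
import Cfsg.Agent.S1027
import Cfsg.Agent.ChevalleyStructure.G2N
import Cfsg.Agent.Prune
set_option linter.all false
prune_inst 0x7f00000000000000000000000000000000000000000000000000000000000000000000000000000000000000000000000000000000000000000000000000000000000000000000000000000000000000003fffffffffffffffffffffffffffbeffbdffffffff
open scoped Cfsg.Agent.FastGrp

/-!
# The unipotent group of `G₂(7)` (helper772)

`U` = the group generated by the positive root elements of `G₂(7)` (14 × 14 matrices over `ZMod 7`); `el a b c d e f` =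
the product `x₆(a) x₇(b) x₈(c) x₉(d) x₁₀(e) x₁₁(f)`; every element is of this form in exactly one way.
-/

set_option autoImplicit false

namespace Cfsg.Agent.H772.GTwo

open Cfsg Cfsg.Lie Cfsg.Agent.ChevalleyStructure.G2Sym

instance fact7 : Fact (Nat.Prime 7) := ⟨by norm_num⟩

/-- the field -/
abbrev K := ZMod 7

/-- the unipotent group -/
abbrev U : Subgroup (GL chevG2.Idx K) := chevG2.posUnipotent K

theorem mem_list : chevG2 ∈ [Cfsg.Lie.chevG2, Cfsg.Lie.chevB2, Cfsg.Lie.chevD4, Cfsg.Lie.chevF4, Cfsg.Lie.chevE6,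
    Cfsg.Lie.chevE7, Cfsg.Lie.chevE8] := List.mem_cons_self ..

theorem posRoots_eq : chevG2.posRoots = [6, 7, 8, 9, 10, 11] := by decide +kernel

/-- the word of an element -/
def wd (a b c d e f : K) : List (ℕ × K) := [(6, a), (7, b), (8, c), (9, d), (10, e), (11, f)]

/-- the family of parameters -/
def fam (a b c d e f : K) (r : ℕ) : K :=
  if r = 6 then a else if r = 7 then b else if r = 8 then c else if r = 9 then d else if r = 10 then e
  else if r = 11 then f else 0

theorem map_fam (t : ℕ → K) : (chevG2.posRoots.map fun r => (r, t r)) = wd (t 6) (t 7) (t 8) (t 9) (t 10) (t 11) := by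
  rw [posRoots_eq]
  rfl

theorem map_fam' (a b c d e f : K) : (chevG2.posRoots.map fun r => (r, fam a b c d e f r)) = wd a b c d e f := by
  rw [map_fam]
  rfl

theorem exists_el (a b c d e f : K) : ∃ g : ↥U, ((g : GL chevG2.Idx K) : Matrix chevG2.Idx chevG2.Idx K) =
    chevG2.wordMat K (wd a b c d e f) := by
  obtain ⟨g, hg, h⟩ := (S1026.result (F := K) chevG2 mem_list).2 (fam a b c d e f)
  exact ⟨⟨g, hg⟩, by rw [h, map_fam']⟩

/-- the element with given parameters -/
noncomputable def el (a b c d e f : K) : ↥U := (exists_el a b c d e f).choose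

theorem coe_el (a b c d e f : K) : ((el a b c d e f : GL chevG2.Idx K) : Matrix chevG2.Idx chevG2.Idx K) =
    chevG2.wordMat K (wd a b c d e f) := (exists_el a b c d e f).choose_spec

theorem ext_mat {g h : ↥U} (H : ((g : GL chevG2.Idx K) : Matrix chevG2.Idx chevG2.Idx K) =
    ((h : GL chevG2.Idx K) : Matrix chevG2.Idx chevG2.Idx K)) : g = h :=
  Subtype.ext (Units.ext H)

theorem el_surj (g : ↥U) : ∃ a b c d e f : K, g = el a b c d e f := by
  obtain ⟨t, ⟨-, ht⟩, -⟩ := (S1026.result (F := K) chevG2 mem_list).1 g g.2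
  rw [map_fam] at ht
  exact ⟨_, _, _, _, _, _, ext_mat (ht.trans (coe_el ..).symm)⟩

theorem not_pos_fam {a b c d e f : K} (r : ℕ) (hr : ¬ chevG2.IsPosRoot r) : fam a b c d e f r = 0 := by
  have h1 : ∀ k ∈ [6, 7, 8, 9, 10, 11], chevG2.IsPosRoot k := by decide +kernel
  have hne : ∀ k ∈ [6, 7, 8, 9, 10, 11], r ≠ k := fun k hk h => hr (h ▸ h1 k hk)
  unfold fam
  rw [if_neg (hne 6 (by simp)), if_neg (hne 7 (by simp)), if_neg (hne 8 (by simp)), if_neg (hne 9 (by simp)),
    if_neg (hne 10 (by simp)), if_neg (hne 11 (by simp))]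

theorem el_inj {a b c d e f a' b' c' d' e' f' : K} (h : el a b c d e f = el a' b' c' d' e' f') :
    a = a' ∧ b = b' ∧ c = c' ∧ d = d' ∧ e = e' ∧ f = f' := by
  obtain ⟨t, -, hu⟩ := (S1026.result (F := K) chevG2 mem_list).1 (el a b c d e f) (el a b c d e f).2
  have h1 := hu (fam a b c d e f) ⟨not_pos_fam, by rw [map_fam', coe_el]⟩
  have h2 := hu (fam a' b' c' d' e' f') ⟨not_pos_fam, by rw [map_fam', h, coe_el]⟩
  have h3 := h1.trans h2.symm
  exact ⟨congrFun h3 6, congrFun h3 7, congrFun h3 8, congrFun h3 9, congrFun h3 10, congrFun h3 11⟩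

theorem card_U : Nat.card ↥U = 7 ^ 6 := by
  have h := S1027.result (F := K) chevG2 mem_list
  have h1 : chevG2.nroots / 2 = 6 := by decide +kernel
  rw [h1, ZMod.card] at h
  exact h

theorem wordMat_append (v w : List (ℕ × K)) : chevG2.wordMat K (v ++ w) = chevG2.wordMat K v * chevG2.wordMat K w := by
  unfold ChevalleyDatum.wordMat
  rw [List.map_append, List.prod_append]

theorem coe_mul_el (g h : ↥U) : (((g * h : ↥U) : GL chevG2.Idx K) : Matrix chevG2.Idx chevG2.Idx K) =
    ((g : GL chevG2.Idx K) : Matrix chevG2.Idx chevG2.Idx K) * ((h : GL chevG2.Idx K) : Matrix chevG2.Idx chevG2.Idx K) :=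
  rfl

theorem seven : ((7 : ℤ) : K) = 0 := by decide

end Cfsg.Agent.H772.GTwo
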