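import Cfsg.Agent.H772.GTwoEl
import Cfsg.Agent.ChevalleyStructure.Grading
import Cfsg.Agent.Prune
set_option linter.all false
prune_inst 0x7f00000000000000000000000000000000000000000000000000000000000000000000000000000000000000000000000000000000000000000000000000000000000000000000000000000000000000003fffffffffffffffffffffffffffbeffbdffffffff
open scoped Cfsg.Agent.FastGrp

/-!
# Relations in the unipotent group of `G₂(7)` (helper772)

The element `x = el 1 1 3 4 6 5` of order 7, its centralizer (order 49), the central element `z = el 0 0 0 0 0 1`, the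
elements of an extraspecial subgroup of order `7^5`, the two linear coordinates, the graded automorphism.
-/

set_option autoImplicit false

namespace Cfsg.Agent.H772.GTwo

open Cfsg Cfsg.Lie Cfsg.Agent.ChevalleyStructure.G2Sym

/-- constant polynomial -/
abbrev cst (k : ℤ) : Poly := [([], k)]

theorem evP_cst (ρ : ℕ → K) (k : ℤ) : evP ρ (cst k) = k := by simp [evP, evM]

/-- a symbolic word in the positive roots -/
def sw (p : List Poly) : List (ℕ × Poly) := List.zip [6, 7, 8, 9, 10, 11] p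

theorem coe_el_sw (ρ : ℕ → K) (p₀ p₁ p₂ p₃ p₄ p₅ : Poly) :
    ((el (evP ρ p₀) (evP ρ p₁) (evP ρ p₂) (evP ρ p₃) (evP ρ p₄) (evP ρ p₅) : GL chevG2.Idx K) :
      Matrix chevG2.Idx chevG2.Idx K) =
    chevG2.wordMat K ((sw [p₀, p₁, p₂, p₃, p₄, p₅]).map fun l => (l.1, evP ρ l.2)) := by
  rw [coe_el]
  rfl

/-- the variables -/
def vars (a b c d e f : K) (k : ℕ) : K :=
  if k = 0 then a else if k = 1 then b else if k = 2 then c else if k = 3 then d else if k = 4 then e else f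

/-- the general word -/
private def gv : List (ℕ × Poly) :=
  sw [[([1], 1)], [([0, 1], 1)], [([0, 0, 1], 1)], [([0, 0, 0, 1], 1)], [([0, 0, 0, 0, 1], 1)], [([0, 0, 0, 0, 0, 1], 1)]]

private theorem gv0 : runS 7 gv (unitS 0) = [(0, [([], 1)]), (8, [([1], 3)]), (9, [([0, 1], 5)]),
    (10, [([0, 0, 1], 1), ([1, 1], 5)]), (11, [([0, 0, 0, 1], 6), ([0, 1, 1], 5)]),
    (12, [([0, 0, 0, 0, 1], 4), ([0, 1, 0, 1], 4), ([0, 2, 1], 4)]),
    (13, [([0, 0, 1, 1], 4), ([1, 0, 0, 0, 1], 4), ([1, 1, 0, 1], 4), ([1, 2, 1], 4)])] := by decide +kernel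

private theorem gv1 : runS 7 gv (unitS 1) = [(1, [([], 1)]), (8, [([1], 5)]), (9, [([0, 1], 1)]),
    (10, [([0, 0, 1], 6), ([1, 1], 1)]), (11, [([0, 1, 1], 2)]), (12, [([0, 0, 0, 0, 1], 1), ([0, 2, 1], 3)]),
    (13, [([0, 0, 0, 0, 0, 1], 6), ([1, 0, 0, 0, 1], 1), ([1, 2, 1], 3)])] := by decide +kernel

private theorem el_entry (a b c d e f : K) {i j : ℕ} (hi : i < 14) (hj : j < 14) :
    ((el a b c d e f : GL chevG2.Idx K) : Matrix chevG2.Idx chevG2.Idx K) (unflat i) (unflat j) =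
      evAt (vars a b c d e f) (runS 7 gv (unitS j)) i := by
  have h := word_apply seven (vars a b c d e f) gv (by decide) (unflat i) (unflat j)
  rw [flat_unflat hi, flat_unflat hj] at h
  have h1 : wd a b c d e f = gv.map fun l => (l.1, evP (vars a b c d e f) l.2) := by
    delta wd
    simp [gv, sw, evP, evM, vars]
  rw [← h, coe_el, h1]

private theorem el_six (a b c d e f : K) {M : Matrix chevG2.Idx chevG2.Idx K}
    (h : M = ((el a b c d e f : GL chevG2.Idx K) : Matrix chevG2.Idx chevG2.Idx K)) :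
    M (unflat 8) (unflat 0) = 3 * a ∧ M (unflat 9) (unflat 1) = b ∧ M (unflat 10) (unflat 0) = c + 5 * (a * b) ∧
      M (unflat 11) (unflat 0) = 6 * d + 5 * (b * c) ∧ M (unflat 12) (unflat 1) = e + 3 * (b ^ 2 * c) ∧
      M (unflat 13) (unflat 1) = 6 * f + (a * e + 3 * (a * (b ^ 2 * c))) := by
  rw [h, el_entry _ _ _ _ _ _ (by decide) (by decide), el_entry _ _ _ _ _ _ (by decide) (by decide),
    el_entry _ _ _ _ _ _ (by decide) (by decide), el_entry _ _ _ _ _ _ (by decide) (by decide),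
    el_entry _ _ _ _ _ _ (by decide) (by decide), el_entry _ _ _ _ _ _ (by decide) (by decide), gv0, gv1]
  simp only [evAt, evP, evM, vars, List.map_cons, List.map_nil, List.sum_cons, List.sum_nil, Int.cast_one,
    Int.cast_ofNat, if_true, if_false, pow_zero, pow_one, one_mul, mul_one, add_zero, zero_add, Nat.reduceAdd,
    Nat.reduceEqDiff, OfNat.ofNat_ne_zero, one_ne_zero, and_self]

/-- an element is determined by two columns -/
private theorem ext_two {g h : ↥U} (H : ∀ j < 2, ∀ i,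
    ((g : GL chevG2.Idx K) : Matrix chevG2.Idx chevG2.Idx K) i (unflat j) =
      ((h : GL chevG2.Idx K) : Matrix chevG2.Idx chevG2.Idx K) i (unflat j)) : g = h := by
  obtain ⟨a, b, c, d, e, f, rfl⟩ := el_surj g
  obtain ⟨a', b', c', d', e', f', rfl⟩ := el_surj h
  obtain ⟨h1, h2, h3, h4, h5, h6⟩ := el_six a b c d e f rfl
  obtain ⟨k1, k2, k3, k4, k5, k6⟩ := el_six a' b' c' d' e' f' rfl
  rw [H 0 (by decide), k1] at h1
  rw [H 1 (by decide), k2] at h2
  rw [H 0 (by decide), k3] at h3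
  rw [H 0 (by decide), k4] at h4
  rw [H 1 (by decide), k5] at h5
  rw [H 1 (by decide), k6] at h6
  have h7 : (7 : K) = 0 := by decide
  obtain rfl : a' = a := by linear_combination 5 * h1 - 2 * (a' - a) * h7
  subst h2
  obtain rfl : c' = c := by linear_combination h3
  obtain rfl : d' = d := by linear_combination (d' - d) * h7 - h4
  obtain rfl : e' = e := by linear_combination h5
  obtain rfl : f' = f := by linear_combination (f' - f) * h7 - h6
  rfl

/-- the check of two columns -/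
private def chk2 (w w' : List (ℕ × Poly)) : Prop :=
  (∀ l ∈ w, l.1 < 12) ∧ (∀ l ∈ w', l.1 < 12) ∧ runS 7 w (unitS 0) = runS 7 w' (unitS 0) ∧
    runS 7 w (unitS 1) = runS 7 w' (unitS 1)

private theorem mul_el {ρ : ℕ → K} {p₀ p₁ p₂ p₃ p₄ p₅ q₀ q₁ q₂ q₃ q₄ q₅ r₀ r₁ r₂ r₃ r₄ r₅ : Poly}
    (h : chk2 (sw [p₀, p₁, p₂, p₃, p₄, p₅] ++ sw [q₀, q₁, q₂, q₃, q₄, q₅]) (sw [r₀, r₁, r₂, r₃, r₄, r₅])) :
    el (evP ρ p₀) (evP ρ p₁) (evP ρ p₂) (evP ρ p₃) (evP ρ p₄) (evP ρ p₅) *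
      el (evP ρ q₀) (evP ρ q₁) (evP ρ q₂) (evP ρ q₃) (evP ρ q₄) (evP ρ q₅) =
    el (evP ρ r₀) (evP ρ r₁) (evP ρ r₂) (evP ρ r₃) (evP ρ r₄) (evP ρ r₅) := by
  obtain ⟨h1, h2, h3, h4⟩ := h
  refine ext_two fun j hj i => ?_
  rw [coe_mul_el, coe_el_sw, coe_el_sw, coe_el_sw, ← wordMat_append, ← List.map_append, word_apply seven ρ _ h1,
    word_apply seven ρ _ h2, flat_unflat (by omega : j < 14)]
  obtain rfl | rfl : j = 0 ∨ j = 1 := by omega
  · rw [h3]
  · rw [h4]

/-- the element `x` -/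
noncomputable def x : ↥U := el 1 1 3 4 6 5
/-- the element `z` -/
noncomputable def z : ↥U := el 0 0 0 0 0 1

private theorem chk_xu : chk2 (sw [[([], 1)], [([], 1)], [([], 3)], [([], 4)], [([], 6)], [([], 5)]] ++
    sw [[([1], 1)], [([0, 1], 1)], [([0, 0, 1], 1)], [([0, 0, 0, 1], 1)], [([0, 0, 0, 0, 1], 1)], [([0, 0, 0, 0, 0, 1], 1)]])
    (sw [[([], 1), ([1], 1)], [([], 1), ([0, 1], 1)], [([], 3), ([0, 0, 1], 1), ([1], 6)],
      [([], 4), ([0, 0, 0, 1], 1), ([0, 1], 6), ([1], 6), ([1, 1], 5)],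
      [([], 6), ([0, 0, 0, 0, 1], 1), ([0, 1], 2), ([0, 2], 5), ([1], 1), ([1, 1], 3), ([1, 2], 3)],
      [([], 5), ([0, 0, 0, 0, 0, 1], 1), ([0, 0, 1], 2), ([0, 1], 1), ([0, 1, 1], 3), ([1], 3), ([1, 0, 1], 3), ([1, 1], 4),
        ([1, 1, 1], 6), ([2], 5), ([2, 1], 4)]]) := by
  unfold chk2
  decide +kernel

private theorem chk_ux : chk2 (
    sw [[([1], 1)], [([0, 1], 1)], [([0, 0, 1], 1)], [([0, 0, 0, 1], 1)], [([0, 0, 0, 0, 1], 1)], [([0, 0, 0, 0, 0, 1], 1)]] ++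
    sw [[([], 1)], [([], 1)], [([], 3)], [([], 4)], [([], 6)], [([], 5)]])
    (sw [[([], 1), ([1], 1)], [([], 1), ([0, 1], 1)], [([], 3), ([0, 0, 1], 1), ([0, 1], 6)],
      [([], 4), ([0, 0, 0, 1], 1), ([0, 0, 1], 2), ([0, 1], 5), ([0, 2], 6)],
      [([], 6), ([0, 0, 0, 0, 1], 1), ([0, 0, 0, 1], 4), ([0, 0, 1], 4), ([0, 1], 3), ([0, 2], 3), ([0, 3], 1)],
      [([], 5), ([0, 0, 0, 0, 0, 1], 1), ([0, 0, 0, 0, 1], 6), ([0, 0, 0, 1], 5), ([0, 0, 1], 3), ([0, 0, 2], 4), ([0, 1], 4),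
        ([0, 1, 1], 6), ([0, 2], 6), ([0, 2, 1], 3), ([0, 3], 5)]]) := by
  unfold chk2
  decide +kernel

theorem x_mul (a b c d e f : K) : x * el a b c d e f =
    el (1 + a) (1 + b) (3 + c + 6 * a) (4 + d + 6 * b + 6 * a + 5 * a * b)
      (6 + e + 2 * b + 5 * b ^ 2 + a + 3 * a * b + 3 * a * b ^ 2)
      (5 + f + 2 * c + b + 3 * b * c + 3 * a + 3 * a * c + 4 * a * b + 6 * a * b * c + 5 * a ^ 2 + 4 * a ^ 2 * b) := by
  have h := mul_el (ρ := vars a b c d e f) chk_xu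
  simp only [evP, evM, vars, List.map_cons, List.map_nil, List.sum_cons, List.sum_nil, Int.cast_one, Int.cast_ofNat,
    if_true, if_false, pow_zero, pow_one, one_mul, mul_one, add_zero, Nat.reduceAdd, Nat.reduceEqDiff,
    OfNat.ofNat_ne_zero, one_ne_zero] at h
  unfold x
  rw [h]
  congr 1 <;> ring

theorem mul_x (a b c d e f : K) : el a b c d e f * x =
    el (1 + a) (1 + b) (3 + c + 6 * b) (4 + d + 2 * c + 5 * b + 6 * b ^ 2)
      (6 + e + 4 * d + 4 * c + 3 * b + 3 * b ^ 2 + b ^ 3)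
      (5 + f + 6 * e + 5 * d + 3 * c + 4 * c ^ 2 + 4 * b + 6 * b * c + 6 * b ^ 2 + 3 * b ^ 2 * c + 5 * b ^ 3) := by
  have h := mul_el (ρ := vars a b c d e f) chk_ux
  simp only [evP, evM, vars, List.map_cons, List.map_nil, List.sum_cons, List.sum_nil, Int.cast_one, Int.cast_ofNat,
    if_true, if_false, pow_zero, pow_one, one_mul, mul_one, add_zero, Nat.reduceAdd, Nat.reduceEqDiff,
    OfNat.ofNat_ne_zero, one_ne_zero] at h
  unfold x
  rw [h]
  congr 1 <;> ring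

end Cfsg.Agent.H772.GTwo

private theorem dce_c4e13cc4b554 : _root_.True := by
  try have : _root_.True := by simp only [_root_.Cfsg.Agent.H772.GTwo.vars.eq_1]
  exact _root_.True.intro
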