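import Cfsg.Agent.H772.GTwoRel
import Cfsg.Agent.Prune
set_option linter.all false
prune_inst 0x7f00000000000000000000000000000000000000000000000000000000000000000000000000000000000000000000000000000000000000000000000000000000000000000000000000000000000000003fffffffffffffffffffffffffffbeffbdffffffff
open scoped Cfsg.Agent.FastGrp

/-!
# Numerical relations in the unipotent group of `G₂(7)` (helper772)

`x ^ 7 = 1`, `z ^ 7 = 1`, `z` central, the elements `a₁ b₁ a₂ b₂` of an extraspecial subgroup, the centralizer of `x`,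
the two linear coordinates.
-/

set_option autoImplicit false

namespace Cfsg.Agent.H772.GTwo

open Cfsg Cfsg.Lie Cfsg.Agent.ChevalleyStructure.G2Sym

/-- numerical symbolic word -/
def nw (k₀ k₁ k₂ k₃ k₄ k₅ : ℤ) : List (ℕ × Poly) :=
  [(6, cst k₀), (7, cst k₁), (8, cst k₂), (9, cst k₃), (10, cst k₄), (11, cst k₅)]

theorem coe_el_nw (k₀ k₁ k₂ k₃ k₄ k₅ : ℤ) : ((el k₀ k₁ k₂ k₃ k₄ k₅ : GL chevG2.Idx K) :
      Matrix chevG2.Idx chevG2.Idx K) =
    chevG2.wordMat K ((nw k₀ k₁ k₂ k₃ k₄ k₅).map fun l => (l.1, evP (fun _ => (0 : K)) l.2)) := by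
  have h := coe_el_sw (fun _ => (0 : K)) (cst k₀) (cst k₁) (cst k₂) (cst k₃) (cst k₄) (cst k₅)
  simp only [evP_cst] at h
  exact h

theorem nmul_el {k₀ k₁ k₂ k₃ k₄ k₅ l₀ l₁ l₂ l₃ l₄ l₅ m₀ m₁ m₂ m₃ m₄ m₅ : ℤ}
    (h : chk 7 (nw k₀ k₁ k₂ k₃ k₄ k₅ ++ nw l₀ l₁ l₂ l₃ l₄ l₅) (nw m₀ m₁ m₂ m₃ m₄ m₅) = true) :
    (el k₀ k₁ k₂ k₃ k₄ k₅ : ↥U) * el l₀ l₁ l₂ l₃ l₄ l₅ = el m₀ m₁ m₂ m₃ m₄ m₅ := by
  apply ext_mat
  rw [coe_mul_el, coe_el_nw, coe_el_nw, coe_el_nw, ← word_eq seven _ _ _ h, List.map_append, wordMat_append]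

theorem el_zero : el 0 0 0 0 0 0 = 1 := by
  have h : chk 7 (nw 0 0 0 0 0 0) [] = true := by decide +kernel
  have h1 := word_eq seven (fun _ => (0 : K)) _ _ h
  rw [← coe_el_nw] at h1
  apply ext_mat
  have h2 : (el ((0 : ℤ) : K) ((0 : ℤ) : K) ((0 : ℤ) : K) ((0 : ℤ) : K) ((0 : ℤ) : K) ((0 : ℤ) : K)) =
      el 0 0 0 0 0 0 := by simp
  rw [← h2, h1]
  rfl

/-! ### The powers of `x` -/

theorem x_mul' {a b c d e f a' b' c' d' e' f' : K}
    (h : (1 + a, 1 + b, 3 + c + 6 * a, 4 + d + 6 * b + 6 * a + 5 * a * b,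
      6 + e + 2 * b + 5 * b ^ 2 + a + 3 * a * b + 3 * a * b ^ 2,
      5 + f + 2 * c + b + 3 * b * c + 3 * a + 3 * a * c + 4 * a * b + 6 * a * b * c + 5 * a ^ 2 + 4 * a ^ 2 * b) =
      (a', b', c', d', e', f')) : x * el a b c d e f = el a' b' c' d' e' f' := by
  rw [x_mul]
  simp only [Prod.mk.injEq] at h
  obtain ⟨h1, h2, h3, h4, h5, h6⟩ := h
  rw [h1, h2, h3, h4, h5, h6]

theorem x_sq : x ^ 2 = el 2 2 5 4 5 6 := by
  rw [pow_two]
  exact x_mul' (by decide)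

theorem x_cube : x ^ 3 = el 3 3 6 3 3 4 := by
  rw [pow_succ', x_sq]
  exact x_mul' (by decide)

theorem x_seven : x ^ 7 = 1 := by
  have h4 : x ^ 4 = el 4 4 6 4 3 3 := by
    rw [pow_succ', x_cube]
    exact x_mul' (by decide)
  have h5 : x ^ 5 = el 5 5 5 3 5 1 := by
    rw [pow_succ', h4]
    exact x_mul' (by decide)
  have h6 : x ^ 6 = el 6 6 3 3 6 2 := by
    rw [pow_succ', h5]
    exact x_mul' (by decide)
  rw [pow_succ', h6, ← el_zero]
  exact x_mul' (by decide)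

/-! ### The centralizer of `x` -/

theorem aux1 : ∀ a b c : K, 3 + c + 6 * b = 3 + c + 6 * a → a = b := by decide +kernel

theorem aux2 : ∀ a c d : K, 4 + d + 2 * c + 5 * a + 6 * a ^ 2 = 4 + d + 6 * a + 6 * a + 5 * a * a → c = 3 * a ^ 2 := by
  decide +kernel

theorem aux3 : ∀ a d e : K, 6 + e + 4 * d + 4 * (3 * a ^ 2) + 3 * a + 3 * a ^ 2 + a ^ 3 =
    6 + e + 2 * a + 5 * a ^ 2 + a + 3 * a * a + 3 * a * a ^ 2 → d = 4 * a ^ 3 := by decide +kernel

theorem aux4 : ∀ a e f : K, 5 + f + 6 * e + 5 * (4 * a ^ 3) + 3 * (3 * a ^ 2) + 4 * (3 * a ^ 2) ^ 2 + 4 * a +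
      6 * a * (3 * a ^ 2) + 6 * a ^ 2 + 3 * a ^ 2 * (3 * a ^ 2) + 5 * a ^ 3 =
    5 + f + 2 * (3 * a ^ 2) + a + 3 * a * (3 * a ^ 2) + 3 * a + 3 * a * (3 * a ^ 2) + 4 * a * a +
      6 * a * a * (3 * a ^ 2) + 5 * a ^ 2 + 4 * a ^ 2 * a → e = 6 * a ^ 4 := by decide +kernel

theorem cent_x {a b c d e f : K} (h : el a b c d e f * x = x * el a b c d e f) :
    a = b ∧ c = 3 * b ^ 2 ∧ d = 4 * b ^ 3 ∧ e = 6 * b ^ 4 := by
  rw [x_mul, mul_x] at h
  obtain ⟨-, -, h3, h4, h5, h6⟩ := el_inj h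
  obtain rfl := aux1 _ _ _ h3
  obtain rfl := aux2 _ _ _ h4
  obtain rfl := aux3 _ _ _ h5
  obtain rfl := aux4 _ _ _ h6
  exact ⟨rfl, rfl, rfl, rfl⟩

/-- `|C_U(x)| ≤ 49`. -/
theorem card_cent_x : Nat.card (Subgroup.centralizer ({x} : Set ↥U)) ≤ 49 := by
  have hfin : Finite ↥U := Nat.finite_of_card_ne_zero (by rw [card_U]; norm_num)
  choose A B C D E F h using el_surj
  have key : ∀ u : ↥U, u * x = x * u → u = el (B u) (B u) (3 * B u ^ 2) (4 * B u ^ 3) (6 * B u ^ 4) (F u) := by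
    intro u hu
    have h1 := h u
    generalize A u = a at h1
    generalize B u = b at h1
    generalize C u = c at h1
    generalize D u = d at h1
    generalize E u = e at h1
    generalize F u = f at h1
    subst h1
    obtain ⟨rfl, rfl, rfl, rfl⟩ := cent_x hu
    rfl
  have hcm : ∀ u : ↥(Subgroup.centralizer ({x} : Set ↥U)), u.1 * x = x * u.1 := by
    intro u
    have h := u.2
    rw [Subgroup.mem_centralizer_singleton_iff] at h
    exact h
  have hφ : Function.Injective (fun u : ↥(Subgroup.centralizer ({x} : Set ↥U)) => ((B u.1, F u.1) : K × K)) := by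
    intro u v huv
    have hu := key u.1 (hcm u)
    have hv := key v.1 (hcm v)
    have h1 : B u.1 = B v.1 := congrArg Prod.fst huv
    have h2 : F u.1 = F v.1 := congrArg Prod.snd huv
    apply Subtype.ext
    rw [hu, hv, h1, h2]
  have h1 := Nat.card_le_card_of_injective _ hφ
  rwa [Nat.card_prod, Nat.card_zmod] at h1

/-! ### The centre -/

theorem chk_zu : chk 7 ([(11, [([], 1)])] ++
    sw [[([1], 1)], [([0, 1], 1)], [([0, 0, 1], 1)], [([0, 0, 0, 1], 1)], [([0, 0, 0, 0, 1], 1)], [([0, 0, 0, 0, 0, 1], 1)]])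
    (sw [[([1], 1)], [([0, 1], 1)], [([0, 0, 1], 1)], [([0, 0, 0, 1], 1)], [([0, 0, 0, 0, 1], 1)], [([0, 0, 0, 0, 0, 1], 1)]]
      ++ [(11, [([], 1)])]) = true := by decide +kernel

theorem coe_z : ((z : GL chevG2.Idx K) : Matrix chevG2.Idx chevG2.Idx K) = chevG2.wordMat K [(11, 1)] := by
  have h : chk 7 (nw 0 0 0 0 0 1) [(11, cst 1)] = true := by decide +kernel
  have h1 := word_eq seven (fun _ => (0 : K)) _ _ h
  rw [← coe_el_nw] at h1
  have h2 : (el ((0 : ℤ) : K) ((0 : ℤ) : K) ((0 : ℤ) : K) ((0 : ℤ) : K) ((0 : ℤ) : K) ((1 : ℤ) : K)) = z := by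
    unfold z; simp
  rw [← h2, h1]
  simp [evP, evM]

theorem z_comm (u : ↥U) : z * u = u * z := by
  obtain ⟨a, b, c, d, e, f, rfl⟩ := el_surj u
  apply ext_mat
  rw [coe_mul_el, coe_mul_el, coe_z, coe_el, ← wordMat_append, ← wordMat_append]
  have h := word_eq seven (vars a b c d e f) _ _ chk_zu
  simpa [sw, wd, evP, evM, vars] using h

theorem z_pow (k : ℕ) : z ^ k = el 0 0 0 0 0 k := by
  induction k with
  | zero => simp [el_zero]
  | succ k ih =>
    rw [pow_succ', ih]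
    apply ext_mat
    rw [coe_mul_el, coe_z, coe_el, coe_el]
    have h : chk 7 ([(11, [([], 1)])] ++ sw [[], [], [], [], [], [([1], 1)]])
      (sw [[], [], [], [], [], [([], 1), ([1], 1)]]) = true := by decide +kernel
    have h1 := word_eq seven (vars k 0 0 0 0 0) _ _ h
    rw [← wordMat_append]
    have h2 : ((k + 1 : ℕ) : K) = 1 + k := by push_cast; ring
    rw [h2]
    simpa [sw, wd, evP, evM, vars] using h1

theorem z_seven : z ^ 7 = 1 := by
  rw [z_pow, ← el_zero]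
  rfl

theorem z_ne_one : z ≠ 1 := by
  rw [← el_zero]
  intro h
  exact absurd (el_inj h).2.2.2.2.2 (by decide)

theorem x_not_mem : x ∉ Subgroup.zpowers z := by
  intro h
  have hfin : Finite ↥U := Nat.finite_of_card_ne_zero (by rw [card_U]; norm_num)
  obtain ⟨k, hk⟩ := (Submonoid.mem_powers_iff _ _).1 (mem_powers_iff_mem_zpowers.2 h)
  rw [z_pow] at hk
  exact absurd (el_inj hk).1 (by decide)

end Cfsg.Agent.H772.GTwo

private theorem dce_ad90ed3ed905 : _root_.True := by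
  try have : _root_.True := by simp only [_root_.Cfsg.Agent.H772.GTwo.wd.eq_1]
  try have : _root_.True := by simp only [_root_.Cfsg.Agent.H772.GTwo.sw.eq_1]
  exact _root_.True.intro
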